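import Groth.Agent.LambdaSpL.Gamma
import Mathlib.RingTheory.Binomial

/-! Identities valid in any pre-`λ`-ring. -/

namespace LambdaSpLib

open PowerSeries Finset LambdaRing

universe u v

variable {A : Type u} [CommRing A] [LambdaOps A]

theorem lam_zero_arg (n : ℕ) (hn : 1 ≤ n) : LambdaOps.lam n (0 : A) = 0 := by
  induction n using Nat.strong_induction_on with
  | h n ih =>
    obtain ⟨m, rfl⟩ := Nat.exists_eq_succ_of_ne_zero (show n ≠ 0 by omega)
    have h := LambdaOps.lam_add (m + 1) (0 : A) 0
    rw [add_zero, sum_range_succ, sum_range_succ', Nat.sub_self, LambdaOps.lam_zero,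
      sum_eq_zero (fun i hi => by
        simp only [mem_range] at hi
        rw [ih (i + 1) (by omega) (by omega), zero_mul])] at h
    simpa [LambdaOps.lam_zero] using h

theorem gamma_zero_arg (n : ℕ) (hn : 1 ≤ n) : gamma n (0 : A) = 0 := by
  obtain ⟨m, rfl⟩ := Nat.exists_eq_succ_of_ne_zero (show n ≠ 0 by omega)
  rw [gamma_eq_gamT, gamT_succ]
  exact sum_eq_zero fun j _ => by rw [lam_zero_arg _ (by omega), mul_zero]

theorem gamma_zero (x : A) : gamma 0 x = 1 := rfl

theorem gamma_one (x : A) : gamma 1 x = x := by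
  rw [gamma_eq_gamT, gamT_one, LambdaOps.lam_one]

theorem gamma_add (k : ℕ) (x y : A) :
    gamma k (x + y) = ∑ i ∈ range (k + 1), gamma i x * gamma (k - i) y := by
  have h : PowerSeries.mk (fun n => LambdaOps.lam n (x + y)) =
      PowerSeries.mk (fun n => LambdaOps.lam n x) * PowerSeries.mk (fun n => LambdaOps.lam n y) := by
    ext n
    rw [coeff_mk, LambdaOps.lam_add, coeff_mul, Finset.Nat.sum_antidiagonal_eq_sum_range_succ_mk]
    simp
  have h' := congrArg (fun f => PowerSeries.subst (tSer (R := A)) f) h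
  simp only [subst_mul hasSubst_tSer] at h'
  rw [mk_gamT (E := fun n => LambdaOps.lam n (x + y)) (LambdaOps.lam_zero _),
    mk_gamT (E := fun n => LambdaOps.lam n x) (LambdaOps.lam_zero _),
    mk_gamT (E := fun n => LambdaOps.lam n y) (LambdaOps.lam_zero _)] at h'
  have := congrArg (coeff k) h'
  rw [coeff_mul, Finset.Nat.sum_antidiagonal_eq_sum_range_succ_mk] at this
  simpa [gamma_eq_gamT] using this

theorem gamma_neg (n : ℕ) (x : A) :
    gamma (n + 1) (-x) = -∑ i ∈ range (n + 1), gamma (i + 1) x * gamma (n - i) (-x) := by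
  have h := gamma_add (n + 1) x (-x)
  rw [add_neg_cancel, gamma_zero_arg _ (by omega), sum_range_succ', gamma_zero, one_mul] at h
  simp only [Nat.succ_sub_succ_eq_sub, Nat.sub_zero] at h
  exact eq_neg_of_add_eq_zero_left ((add_comm _ _).trans h.symm)

section One

variable (h1 : ∀ k : ℕ, 2 ≤ k → LambdaOps.lam k (1 : A) = 0)
include h1

theorem lam_add_one (n : ℕ) (x : A) :
    LambdaOps.lam (n + 1) (x + 1) = LambdaOps.lam (n + 1) x + LambdaOps.lam n x := by
  rw [LambdaOps.lam_add, sum_range_succ, sum_range_succ, sum_eq_zero fun i hi => by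
    simp only [mem_range] at hi
    rw [h1 _ (by omega), mul_zero], zero_add, Nat.sub_self, LambdaOps.lam_zero, mul_one,
    show n + 1 - n = 1 by omega, LambdaOps.lam_one, mul_one, add_comm]

theorem lam_intCast (z : ℤ) : ∀ n : ℕ, LambdaOps.lam n (z : A) = ((Ring.choose z n : ℤ) : A) := by
  induction z with
  | zero =>
    intro n
    rcases n with _ | n
    · simp [LambdaOps.lam_zero]
    · simp [lam_zero_arg]
  | succ i ih =>
    intro n
    rcases n with _ | n
    · simp [LambdaOps.lam_zero]
    · push_cast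
      rw [lam_add_one h1, Ring.choose_succ_succ]
      have := ih n
      have := ih (n + 1)
      push_cast at *
      simp only [*]
      ring
  | pred i ih =>
    intro n
    induction n with
    | zero => simp [LambdaOps.lam_zero]
    | succ n ihn =>
      have e := lam_add_one h1 n (((-(i : ℤ) - 1 : ℤ)) : A)
      have e2 := Ring.choose_succ_succ (-(i : ℤ) - 1) n
      have := ih (n + 1)
      rw [show (((-(i : ℤ) - 1 : ℤ)) : A) + 1 = ((-(i : ℤ) : ℤ) : A) by push_cast; ring, this,
        ihn] at e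
      rw [show (-(i : ℤ) - 1) + 1 = -(i : ℤ) by ring] at e2
      rw [e2, Int.cast_add] at e
      linear_combination -e

theorem gamma_eq_lam (n : ℕ) (x : A) : gamma n x = LambdaOps.lam n (x + (n : A) - 1) := by
  rcases n with _ | m
  · simp [gamma_zero, LambdaOps.lam_zero]
  rw [gamma_eq_gamT, gamT_succ, show x + ((m + 1 : ℕ) : A) - 1 = x + ((m : ℤ) : A) by push_cast; ring,
    LambdaOps.lam_add, sum_range_succ' _ (m + 1)]
  rw [LambdaOps.lam_zero, Nat.sub_zero, lam_intCast h1, Ring.choose_natCast]
  simp only [Nat.choose_succ_self, Nat.cast_zero, Int.cast_zero, mul_zero, add_zero]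
  refine sum_congr rfl fun j hj => ?_
  simp only [mem_range] at hj
  rw [show m + 1 - (j + 1) = m - j by omega, lam_intCast h1, Ring.choose_natCast,
    Nat.choose_symm (by omega : j ≤ m), Int.cast_natCast, mul_comm]

variable {d : ℕ} {N : A} (hN : ∀ i : ℕ, d < i → LambdaOps.lam i N = 0)
include hN

theorem gamma_sub_rank_eq_zero {k : ℕ} (hk : d < k) : gamma k (N - (d : A)) = 0 := by
  obtain ⟨c, rfl⟩ := Nat.exists_eq_add_of_lt hk
  rw [gamma_eq_lam h1, show N - (d : A) + ((d + c + 1 : ℕ) : A) - 1 = N + ((c : ℤ) : A) by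
    push_cast; ring, LambdaOps.lam_add]
  refine sum_eq_zero fun i _ => ?_
  rcases le_or_gt i d with h | h
  · rw [lam_intCast h1, Ring.choose_natCast, Nat.choose_eq_zero_of_lt (by omega)]
    simp
  · rw [hN i h, zero_mul]

theorem gamma_sub_rank_top :
    gamma d (N - (d : A)) =
      (-1) ^ d * ∑ i ∈ range (d + 1), (-1 : A) ^ i * LambdaOps.lam i N := by
  rw [gamma_eq_lam h1, show N - (d : A) + (d : A) - 1 = N + ((-1 : ℤ) : A) by push_cast; ring,
    LambdaOps.lam_add, mul_sum]
  refine sum_congr rfl fun i hi => ?_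
  simp only [mem_range] at hi
  rw [lam_intCast h1, Ring.choose_neg, ← mul_assoc, ← pow_add, mul_comm]
  congr 1
  rw [Units.smul_def, smul_eq_mul, Int.cast_mul, Int.negOnePow_def, zpow_natCast]
  simp only [Units.val_pow_eq_pow_val, Units.val_neg, Units.val_one, Int.cast_pow, Int.cast_neg,
    Int.cast_one]
  rw [show (1 : ℤ) + ((d - i : ℕ) : ℤ) - 1 = ((d - i : ℕ) : ℤ) by ring, Ring.choose_natCast,
    Nat.choose_self]
  simp only [Nat.cast_one, Int.cast_one, mul_one]
  rw [show d + i = d - i + 2 * i by omega, pow_add, pow_mul]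
  simp

end One

end LambdaSpLib
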