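import Groth.Agent.LambdaSpL.Weight
import Groth.Agent.LambdaSpL.Pre

/-! Transfer of weights to the `γ`-filtration of a special `λ`-algebra. -/

namespace LambdaSpLib

open MvPolynomial Finset LambdaRing

universe u v w

section Fil

variable {A : Type v} [CommRing A] [LambdaOps A] {K : Type u} [CommRing K] (ε : A →+* K)

theorem gammaFil_zero : gammaFil ε 0 = ⊤ :=
  (Ideal.eq_top_iff_one _).2 (Ideal.subset_span ⟨[], by simp, le_rfl, by simp⟩)

theorem isFilt_gammaFil : IsFilt (gammaFil ε) where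
  zero := gammaFil_zero ε
  anti a b hab := Ideal.span_mono fun y ⟨l, hl, hs, hy⟩ => ⟨l, hl, hab.trans hs, hy⟩
  mul := by
    intro a b x y hx hy
    induction hx using Submodule.span_induction with
    | mem x hx =>
      induction hy using Submodule.span_induction with
      | mem y hy =>
        obtain ⟨l, hl, hs, rfl⟩ := hx
        obtain ⟨l', hl', hs', rfl⟩ := hy
        refine Ideal.subset_span ⟨l ++ l', fun p hp => (List.mem_append.1 hp).elim (hl p) (hl' p),
          ?_, by simp⟩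
        simp only [List.map_append, List.sum_append]
        omega
      | zero => simp
      | add p q _ _ h h' => rw [mul_add]; exact Ideal.add_mem _ h h'
      | smul c p _ h => rw [smul_eq_mul, mul_left_comm]; exact Ideal.mul_mem_left _ _ h
    | zero => simp
    | add p q _ _ h h' => rw [add_mul]; exact Ideal.add_mem _ h h'
    | smul c p _ h => rw [smul_eq_mul, mul_assoc]; exact Ideal.mul_mem_left _ _ h

theorem gamma_mem_gammaFil (i : ℕ) {x : A} (hx : ε x = 0) : gamma i x ∈ gammaFil ε i :=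
  Ideal.subset_span ⟨[(i, x)], by simpa using hx, by simp, by simp⟩

theorem gammaFil_le {T : ℕ → Ideal A} (hT : IsFilt T)
    (h : ∀ i x, ε x = 0 → gamma i x ∈ T i) (k : ℕ) : gammaFil ε k ≤ T k := by
  refine Ideal.span_le.2 ?_
  rintro _ ⟨l, hl, hs, rfl⟩
  refine hT.anti hs ?_
  clear hs
  induction l with
  | nil => simp [hT.zero]
  | cons p l ih =>
    simp only [List.map_cons, List.sum_cons, List.prod_cons]
    exact hT.mul (h _ _ (hl p List.mem_cons_self)) (ih fun q hq => hl q (List.mem_cons_of_mem _ hq))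

end Fil

variable {σ : Type w} {K : Type u} [CommRing K] {A : Type v} [CommRing A] [LambdaOps A]
  (f : K →+* A) (a : σ → A)

theorem IsFilt.prod_pow_mem {R : Type v} [CommRing R] {T : ℕ → Ideal R} (hT : IsFilt T) {x : R}
    {j : ℕ} (hx : x ∈ T j) (e : ℕ) : x ^ e ∈ T (e * j) := by
  induction e with
  | zero => simp [hT.zero]
  | succ e ih =>
    rw [pow_succ, Nat.succ_mul]
    exact hT.mul ih hx

theorem phi_mem {T : ℕ → Ideal A} (hT : IsFilt T)
    (h : ∀ r j, gamma (j + 1) (a r) ∈ T (j + 1)) {k : ℕ} {U : MvPolynomial (σ × ℕ) K}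
    (hU : U ∈ Wt σ K k) : phi f a U ∈ T k := by
  rw [U.as_sum, map_sum]
  refine Ideal.sum_mem _ fun m hm => hT.anti (hU hm) ?_
  rw [phi, eval₂Hom_monomial]
  refine Ideal.mul_mem_left _ _ ?_
  clear hm
  induction m using Finsupp.induction with
  | zero => simp [hT.zero]
  | single_add x e m hx he ih =>
    classical
    rw [Finsupp.prod_add_index' (fun _ => pow_zero _) (fun _ _ _ => pow_add _ _ _),
      Finsupp.prod_single_index (by exact pow_zero _), map_add,
      Finsupp.weight_single, smul_eq_mul]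
    refine hT.mul (hT.prod_pow_mem (h x.1 x.2) e) ?_
    exact ih

section Binom

variable [BinomialRing K] [LambdaOps K] (hKb : IsBinomial K)
  (hf : ∀ (n : ℕ) (x : K), f (LambdaOps.lam n x) = LambdaOps.lam n (f x)) (hA : IsSpecial A)
include hKb hf hA

/-- The properties of `γ^i` on the free algebra, transported along `phi`. -/
theorem exists_gamma_spec (i : ℕ) (hi : 1 ≤ i) (U : MvPolynomial (σ × ℕ) K) :
    ∃ V, phi f a V = gamma i (phi f a U) ∧
      (∀ w, 1 ≤ w → U ∈ Wt σ K w → V ∈ Wt σ K (max i w)) ∧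
      (U ∈ Wt σ K i →
        V - (-1 : MvPolynomial (σ × ℕ) K) ^ (i - 1) * ((i - 1).factorial : MvPolynomial (σ × ℕ) K) * U
          ∈ Wt σ K (i + 1)) ∧
      (∀ r d, U ∈ Jt K r d → V ∈ Jt K r d) := by
  obtain ⟨V, hV, hV'⟩ := exists_gamma f a hKb hf hA i U
  refine ⟨V, hV', fun w hw hU => ?_, fun hU => ?_, fun r d hU => ?_⟩
  · rw [← toQ_mem_Wt, hV]
    exact gamQ_mem hw (toQ_mem_Wt.2 hU) i hi
  · rw [← toQ_mem_Wt, map_sub, map_mul, map_mul, map_pow, map_neg, map_one, map_natCast, hV]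
    exact gamQ_sub_mem hi (toQ_mem_Wt.2 hU)
  · rw [← toQ_mem_Jt, hV]
    exact gamQ_mem_Jt (toQ_mem_Jt.2 hU) i hi

theorem exists_lam_spec (i : ℕ) (hi : 1 ≤ i) (U : MvPolynomial (σ × ℕ) K) {r : σ} {d : ℕ}
    (hU : U ∈ Jt K r d) : ∃ V ∈ Jt K r d, phi f a V = LambdaOps.lam i (phi f a U) := by
  obtain ⟨V, hV, hV'⟩ := isGood f a hKb hf hA U i
  refine ⟨V, ?_, hV'⟩
  rw [← toQ_mem_Jt, hV]
  exact lamQ_mem_Jt (toQ_mem_Jt.2 hU) i hi

/-- An element of augmentation zero is the image of an element of weight one. -/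
theorem gamma_mem_of_phi_surjective {T : ℕ → Ideal A} (hT : IsFilt T) (ε : A →+* K)
    (hεf : ∀ c, ε (f c) = c) (hεa : ∀ r j, ε (gamma (j + 1) (a r)) = 0)
    (h : ∀ r j, gamma (j + 1) (a r) ∈ T (j + 1)) (hs : Function.Surjective (phi f a))
    (i : ℕ) (z : A) (hz : ε z = 0) : gamma i z ∈ T i := by
  rcases Nat.eq_zero_or_pos i with rfl | hi
  · rw [hT.zero]; trivial
  obtain ⟨U, rfl⟩ := hs z
  have hc : ε.comp (phi f a) = (constantCoeff : MvPolynomial (σ × ℕ) K →+* K) := by
    refine MvPolynomial.ringHom_ext (fun c => by simp [phi, hεf]) (fun x => ?_)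
    simp [phi, hεa]
  have hU : U ∈ Wt σ K 1 := by
    intro m hm
    show 1 ≤ Finsupp.weight wt m
    rcases Nat.eq_zero_or_pos (Finsupp.weight wt m) with h0 | h0
    · have : m = 0 := by
        ext x
        by_contra hx
        have := Finsupp.le_weight wt (show wt x ≠ 0 by simp [wt]) (f := m)
        simp at hx
        omega
      subst this
      have := RingHom.congr_fun hc U
      rw [RingHom.comp_apply, hz, constantCoeff_eq] at this
      exact absurd this.symm (mem_support_iff.1 hm)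
    · exact h0
  obtain ⟨V, hV, hVw, -, -⟩ := exists_gamma_spec f a hKb hf hA i hi U
  rw [← hV]
  exact phi_mem f a hT h (isFilt_Wt.anti (le_max_left i 1) (hVw 1 le_rfl hU))

end Binom

section Aug

variable {K : Type u} [CommRing K] [LambdaOps K] {A : Type v} [CommRing A] [LambdaOps A]
  [Algebra K A] {ε : A →ₐ[K] K} (hε : IsAugLambdaAlg K A ε)
include hε

theorem aug_gamma (n : ℕ) (x : A) : ε (gamma n x) = gamma n (ε x) := by
  rw [gamma_eq_gamT, gamma_eq_gamT, ← AlgHom.coe_toRingHom, map_gamT]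
  exact gamT_congr n fun m _ _ => hε.map_lam m x

theorem aug_gamma_eq_zero (j : ℕ) {x : A} (hx : ε x = 0) : ε (gamma (j + 1) x) = 0 := by
  rw [aug_gamma hε, hx, gamma_zero_arg _ (by omega)]

/-- Elements of augmentation zero. -/
abbrev kerGen (ε : A →ₐ[K] K) := {x : A // ε x = 0}

omit [LambdaOps K] hε in
theorem phi_surjective :
    Function.Surjective (phi (algebraMap K A) (Subtype.val : kerGen ε → A)) := by
  intro z
  let r : kerGen ε := ⟨z - algebraMap K A (ε z), by simp⟩
  refine ⟨C (ε z) + X (r, 0), ?_⟩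
  simp [phi, r, gamma_one]

omit hε in
theorem exists_phi_of_mem {k : ℕ} {z : A} (hz : z ∈ gammaFil (ε : A →+* K) k) :
    ∃ U ∈ Wt (kerGen ε) K k, phi (algebraMap K A) (Subtype.val : kerGen ε → A) U = z := by
  let φ := phi (algebraMap K A) (Subtype.val : kerGen ε → A)
  have hle : gammaFil (ε : A →+* K) k ≤ (Wt (kerGen ε) K k).map φ := by
    refine gammaFil_le _ (T := fun k => (Wt (kerGen ε) K k).map φ) ⟨?_, ?_, ?_⟩ ?_ k
    · simp only [isFilt_Wt.zero, Ideal.map_top]
    · exact fun a b hab => Ideal.map_mono (isFilt_Wt.anti hab)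
    · intro a b x y hx hy
      obtain ⟨X', hX', rfl⟩ := (Ideal.mem_map_iff_of_surjective φ phi_surjective).1 hx
      obtain ⟨Y', hY', rfl⟩ := (Ideal.mem_map_iff_of_surjective φ phi_surjective).1 hy
      rw [← map_mul]
      exact Ideal.mem_map_of_mem _ (isFilt_Wt.mul hX' hY')
    · intro i x hx
      have := Ideal.mem_map_of_mem φ (gY_mem (R := K) (⟨x, hx⟩ : kerGen ε) i)
      rwa [show φ (gY K (⟨x, hx⟩ : kerGen ε) i) = gamma i x from phi_gY _ _ _ _] at this
  exact (Ideal.mem_map_iff_of_surjective φ phi_surjective).1 (hle hz)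

omit hε in
theorem phi_mem_gammaFil {k : ℕ} {U : MvPolynomial (kerGen ε × ℕ) K}
    (hU : U ∈ Wt (kerGen ε) K k) :
    phi (algebraMap K A) (Subtype.val : kerGen ε → A) U ∈ gammaFil (ε : A →+* K) k :=
  phi_mem _ _ (isFilt_gammaFil _) (fun r _ => gamma_mem_gammaFil _ _ r.2) hU

theorem gamma_sub_factorial_mem [BinomialRing K] (hKb : IsBinomial K) (hA : IsSpecial A) (m : ℕ)
    (hm : 1 ≤ m) (z : A) (hz : z ∈ gammaFil (ε : A →+* K) m) :
    gamma m z - (-1 : A) ^ (m - 1) * ((m - 1).factorial : A) * z ∈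
      gammaFil (ε : A →+* K) (m + 1) := by
  obtain ⟨U, hU, rfl⟩ := exists_phi_of_mem hz
  obtain ⟨V, hV, -, hV2, -⟩ := exists_gamma_spec (algebraMap K A) (Subtype.val : kerGen ε → A)
    hKb hε.isLambdaAlg hA m hm U
  have := phi_mem_gammaFil (hV2 hU)
  simpa [hV] using this

end Aug

section Top

variable {K : Type u} [CommRing K] {A : Type v} [CommRing A] [LambdaOps A]

/-- Elements of `J_{d-1}` become multiples of `γ^d` where the higher `γ` vanish. -/
theorem exists_mul_of_mem_Jt (f : K →+* A) (a : σ → A) {r : σ} {d : ℕ} (hd : 1 ≤ d)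
    (hr : ∀ j, d < j → gamma j (a r) = 0) {p : ℕ} {U : MvPolynomial (σ × ℕ) K}
    (hJ : U ∈ Jt K r (d - 1)) (hW : U ∈ Wt σ K p) :
    ∃ Y ∈ Wt σ K (p - d), phi f a U = gamma d (a r) * phi f a Y := by
  suffices ∀ m ∈ U.support, ∃ Y ∈ Wt σ K (p - d),
      phi f a (monomial m (U.coeff m)) = gamma d (a r) * phi f a Y by
    choose Y hY hY' using this
    refine ⟨∑ m ∈ U.support.attach, Y m.1 m.2, Ideal.sum_mem _ fun m _ => hY m.1 m.2, ?_⟩
    conv_lhs => rw [U.as_sum]
    rw [map_sum, map_sum, mul_sum, ← Finset.sum_attach]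
    exact sum_congr rfl fun m _ => hY' m.1 m.2
  intro m hm
  obtain ⟨j, hj, hj0⟩ := hJ hm
  have hmul : monomial m (U.coeff m) =
      X (r, j) * monomial (m - Finsupp.single (r, j) 1) (U.coeff m) := by
    rw [← pow_one (X (r, j)), X_pow_eq_monomial, monomial_mul, one_mul, add_tsub_cancel_of_le]
    exact Finsupp.single_le_iff.2 (Nat.one_le_iff_ne_zero.2 hj0)
  rcases eq_or_lt_of_le hj with e | hlt
  · refine ⟨monomial (m - Finsupp.single (r, j) 1) (U.coeff m), monomial_mem_Wt ?_ _, ?_⟩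
    · have := hW hm
      have h1 : Finsupp.weight wt (m - Finsupp.single (r, j) 1 + Finsupp.single (r, j) 1) =
          Finsupp.weight wt m := by
        rw [tsub_add_cancel_of_le]
        exact Finsupp.single_le_iff.2 (Nat.one_le_iff_ne_zero.2 hj0)
      rw [map_add, Finsupp.weight_single, one_smul] at h1
      simp only [wt] at h1
      change p ≤ Finsupp.weight wt m at this
      omega
    · rw [hmul, map_mul]
      congr 1
      rw [show d = j + 1 by omega]
      exact eval₂Hom_X' _ _ _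
  · refine ⟨0, Ideal.zero_mem _, ?_⟩
    rw [hmul, map_mul, map_zero, mul_zero]
    simp [phi, hr (j + 1) (by omega)]

end Top

end LambdaSpLib
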