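import Groth.Agent.LambdaSpL.PosStr
import Groth.Agent.LambdaSpL.Transfer
import Mathlib.RingTheory.MvPolynomial.Symmetric.FundamentalTheorem
import Mathlib.RingTheory.MvPolynomial.Ideal
import Mathlib.Algebra.MvPolynomial.Monad

/-! The γ-filtration of a λ-ring with positive structure and the Adams operations on it. -/

namespace LambdaSpLib

open Finset LambdaRing

universe u

variable {A : Type u} [CommRing A] [LambdaOps A] (P : PosStructure A)

section Fil

theorem gf_zero : gammaFiltration P 0 = ⊤ := if_pos rfl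

theorem gamma_prod_mem (l : List (ℕ × A)) (hl : ∀ p ∈ l, P.aug p.2 = 0) {n : ℕ}
    (hn : n ≤ (l.map Prod.fst).sum) :
    (l.map fun p => gamma p.1 p.2).prod ∈ gammaFiltration P n := by
  rw [gammaFiltration]
  split_ifs
  · trivial
  · exact AddSubgroup.subset_closure ⟨l, hl, hn, rfl⟩

theorem gf_induction {n : ℕ} (hn : n ≠ 0) {p : A → Prop}
    (mem : ∀ l : List (ℕ × A), (∀ q ∈ l, P.aug q.2 = 0) → n ≤ (l.map Prod.fst).sum →
      p (l.map fun q => gamma q.1 q.2).prod)
    (zero : p 0) (add : ∀ a b, p a → p b → p (a + b)) (neg : ∀ a, p a → p (-a))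
    {x : A} (hx : x ∈ gammaFiltration P n) : p x := by
  rw [gammaFiltration, if_neg hn] at hx
  induction hx using AddSubgroup.closure_induction with
  | mem y hy => obtain ⟨l, h1, h2, rfl⟩ := hy; exact mem l h1 h2
  | zero => exact zero
  | add a b _ _ ha hb => exact add a b ha hb
  | neg a _ ha => exact neg a ha

theorem gf_smul_mem (n : ℕ) (a : A) {x : A} (hx : x ∈ gammaFiltration P n) :
    a * x ∈ gammaFiltration P n := by
  rcases eq_or_ne n 0 with rfl | hn
  · rw [gf_zero]; trivial
  refine gf_induction P hn (p := fun y => a * y ∈ gammaFiltration P n) (fun l hl hs => ?_)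
    (by simp) (fun y z hy hz => by rw [mul_add]; exact add_mem hy hz)
    (fun y hy => by rw [mul_neg]; exact neg_mem hy) hx
  have e : a * (l.map fun q => gamma q.1 q.2).prod =
      (P.aug a) • (l.map fun q => gamma q.1 q.2).prod +
        (((1, a - (P.aug a : A)) :: l).map fun q => gamma q.1 q.2).prod := by
    rw [List.map_cons, List.prod_cons, gamma_one, zsmul_eq_mul]
    ring
  rw [e]
  refine add_mem (zsmul_mem (gamma_prod_mem P l hl hs) _) (gamma_prod_mem P _ ?_ ?_)
  · intro q hq
    rcases List.mem_cons.1 hq with rfl | hq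
    · simp
    · exact hl q hq
  · simp only [List.map_cons, List.sum_cons]; omega

/-- The γ-filtration as ideals. -/
def gfIdeal (n : ℕ) : Ideal A where
  __ := gammaFiltration P n
  smul_mem' a _ hx := gf_smul_mem P n a hx

theorem mem_gfIdeal {n : ℕ} {x : A} : x ∈ gfIdeal P n ↔ x ∈ gammaFiltration P n := Iff.rfl

theorem gf_anti {a b : ℕ} (h : a ≤ b) {x : A} (hx : x ∈ gammaFiltration P b) :
    x ∈ gammaFiltration P a := by
  rcases eq_or_ne b 0 with rfl | hb
  · rw [Nat.le_zero.1 h]; exact hx
  exact gf_induction P hb (p := (· ∈ gammaFiltration P a))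
    (fun l hl hs => gamma_prod_mem P l hl (h.trans hs)) (zero_mem _) (fun _ _ => add_mem)
    (fun _ => neg_mem) hx

theorem gf_mul {a b : ℕ} {x y : A} (hx : x ∈ gammaFiltration P a) (hy : y ∈ gammaFiltration P b) :
    x * y ∈ gammaFiltration P (a + b) := by
  rcases eq_or_ne a 0 with rfl | ha
  · rw [zero_add]; exact gf_smul_mem P b x hy
  rcases eq_or_ne b 0 with rfl | hb
  · rw [add_zero, mul_comm]; exact gf_smul_mem P a y hx
  refine gf_induction P ha (p := fun x => x * y ∈ gammaFiltration P (a + b)) (fun l hl hs => ?_)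
    (by simp) (fun _ _ h h' => by rw [add_mul]; exact add_mem h h')
    (fun _ h => by rw [neg_mul]; exact neg_mem h) hx
  refine gf_induction P hb (p := fun y => _ * y ∈ gammaFiltration P (a + b)) (fun m hm hs' => ?_)
    (by simp) (fun _ _ h h' => by rw [mul_add]; exact add_mem h h')
    (fun _ h => by rw [mul_neg]; exact neg_mem h) hy
  rw [← List.prod_append, ← List.map_append]
  refine gamma_prod_mem P _ (fun q hq => (List.mem_append.1 hq).elim (hl q) (hm q)) ?_
  rw [List.map_append, List.sum_append]; omega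

theorem isFilt_gfIdeal : IsFilt (gfIdeal P) where
  zero := by ext; simp [mem_gfIdeal, gf_zero]
  anti _ _ h _ hx := gf_anti P h hx
  mul hx hy := gf_mul P hx hy

theorem gamma_mem_gf {x : A} (hx : P.aug x = 0) (r : ℕ) : gamma r x ∈ gammaFiltration P r := by
  simpa using gamma_prod_mem P [(r, x)] (by simpa using hx) (n := r) (by simp)

theorem mem_gf_one {x : A} (hx : P.aug x = 0) : x ∈ gammaFiltration P 1 := by
  simpa [gamma_one] using gamma_mem_gf P hx 1

theorem gf_pow {x : A} (hx : P.aug x = 0) (n : ℕ) : x ^ n ∈ gammaFiltration P n := by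
  induction n with
  | zero => rw [gf_zero]; trivial
  | succ n ih => rw [pow_succ]; exact gf_mul P ih (mem_gf_one P hx)

end Fil

section Universal

open MvPolynomial

theorem esymm_isHomogeneous' (σ : Type) [Fintype σ] (k : ℕ) :
    (esymm σ ℤ k).IsHomogeneous k := by
  rw [esymm]
  refine IsHomogeneous.sum _ _ _ fun t ht => ?_
  have h := IsHomogeneous.prod t (fun i => (X i : MvPolynomial σ ℤ)) (fun _ => 1)
    fun i _ => isHomogeneous_X ℤ i
  simpa [(Finset.mem_powersetCard.1 ht).2] using h

theorem prod_sub_prod_mem {R : Type*} [CommRing R] {ι : Type*} (I : Ideal R) (a b : ι → R)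
    (t : Finset ι) (ha : ∀ i ∈ t, a i ∈ I) (hb : ∀ i ∈ t, b i ∈ I)
    (h : ∀ i ∈ t, a i - b i ∈ I ^ 2) : ∏ i ∈ t, a i - ∏ i ∈ t, b i ∈ I ^ (t.card + 1) := by
  classical
  induction t using Finset.induction_on with
  | empty => simp
  | insert i t hi ih =>
    simp only [Finset.mem_insert, forall_eq_or_imp] at ha hb h
    have ih' := ih ha.2 hb.2 h.2
    rw [Finset.prod_insert hi, Finset.prod_insert hi, Finset.card_insert_of_notMem hi,
      show a i * ∏ j ∈ t, a j - b i * ∏ j ∈ t, b j =
        a i * (∏ j ∈ t, a j - ∏ j ∈ t, b j) + (a i - b i) * ∏ j ∈ t, b j by ring]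
    refine add_mem ?_ ?_
    · rw [pow_succ']; exact Ideal.mul_mem_mul ha.1 ih'
    · have hp : ∏ j ∈ t, b j ∈ I ^ t.card := by
        rw [← Finset.prod_const]; exact Ideal.prod_mem_prod hb.2
      rw [show t.card + 1 + 1 = 2 + t.card by omega, pow_add]
      exact Ideal.mul_mem_mul h.1 hp

theorem one_add_pow_sub_mem {R : Type*} [CommRing R] (I : Ideal R) {a : R} (ha : a ∈ I) (j : ℕ) :
    (1 + a) ^ j - 1 - (j : R) * a ∈ I ^ 2 := by
  induction j with
  | zero => simp
  | succ j ih =>
    rw [show (1 + a) ^ (j + 1) - 1 - ((j + 1 : ℕ) : R) * a =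
      (1 + a) * ((1 + a) ^ j - 1 - (j : R) * a) + (j : R) * (a * a) by push_cast; ring]
    refine add_mem (Ideal.mul_mem_left _ _ ih) (Ideal.mul_mem_left _ _ ?_)
    rw [pow_two]; exact Ideal.mul_mem_mul ha ha

variable {R : Type*} [CommRing R]

/-- `e_r((1+a)^j - 1) - j^r e_r(a)` as a polynomial. -/
noncomputable def adamsDiff (m j r : ℕ) : MvPolynomial (Fin m) ℤ :=
  bind₁ (fun i => (1 + X i) ^ j - 1) (esymm (Fin m) ℤ r) - C ((j : ℤ) ^ r) * esymm (Fin m) ℤ r

theorem adamsDiff_eq (m j r : ℕ) :
    adamsDiff m j r = ∑ t ∈ powersetCard r (univ : Finset (Fin m)),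
      (∏ i ∈ t, ((1 + X i) ^ j - 1) - ∏ i ∈ t, C (j : ℤ) * X i) := by
  rw [adamsDiff, esymm, map_sum, Finset.mul_sum, ← Finset.sum_sub_distrib]
  refine Finset.sum_congr rfl fun t ht => ?_
  rw [map_prod, Finset.prod_mul_distrib, Finset.prod_const, (Finset.mem_powersetCard.1 ht).2,
    map_pow]
  simp

theorem adamsDiff_mem (m j r : ℕ) : adamsDiff m j r ∈ idealOfVars (Fin m) ℤ ^ (r + 1) := by
  have hX : ∀ i : Fin m, (X i : MvPolynomial (Fin m) ℤ) ∈ idealOfVars (Fin m) ℤ := fun i =>
    Ideal.subset_span ⟨i, rfl⟩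
  rw [adamsDiff_eq]
  refine Ideal.sum_mem _ fun t ht => ?_
  rw [← (Finset.mem_powersetCard.1 ht).2]
  refine prod_sub_prod_mem _ _ _ t (fun i _ => ?_) (fun i _ => Ideal.mul_mem_left _ _ (hX i))
    fun i _ => ?_
  · have h2 := Ideal.pow_le_self two_ne_zero (one_add_pow_sub_mem _ (hX i) j)
    simpa using add_mem h2 (Ideal.mul_mem_left _ (j : MvPolynomial (Fin m) ℤ) (hX i))
  · simpa using one_add_pow_sub_mem _ (hX i) j

theorem exists_adamsDiff_poly (m j r : ℕ) :
    ∃ Q : MvPolynomial (Fin m) ℤ,
      aeval (fun i : Fin m => esymm (Fin m) ℤ ((i : ℕ) + 1)) Q = adamsDiff m j r ∧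
      ∀ d ∈ Q.support, r + 1 ≤ ∑ i : Fin m, d i * ((i : ℕ) + 1) := by
  classical
  have hsym : (adamsDiff m j r).IsSymmetric := by
    intro e
    rw [adamsDiff_eq, map_sum]
    refine Finset.sum_bij' (fun t _ => t.map e.toEmbedding) (fun t _ => t.map e.symm.toEmbedding)
      ?_ ?_ ?_ ?_ ?_
    · intro t ht; simp_all [Finset.mem_powersetCard]
    · intro t ht; simp_all [Finset.mem_powersetCard]
    · intro t _; ext; simp
    · intro t _; ext; simp
    · intro t _; simp [map_prod]
  obtain ⟨Q, hQ⟩ := esymmAlgHom_fin_surjective (n := m) ℤ (m := m) le_rfl ⟨_, hsym⟩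
  set φ : MvPolynomial (Fin m) ℤ →ₐ[ℤ] MvPolynomial (Fin m) ℤ :=
    aeval (fun i : Fin m => esymm (Fin m) ℤ ((i : ℕ) + 1)) with hφ
  have hval : ∀ p, ((esymmAlgHom (Fin m) ℤ m) p).val = φ p := fun p => esymmAlgHom_apply p
  have hφQ : φ Q = adamsDiff m j r := by rw [← hval, hQ]
  have hinj : Function.Injective φ := fun a b h =>
    esymmAlgHom_fin_injective (n := m) ℤ (m := m) le_rfl (Subtype.ext (by rw [hval, hval, h]))
  have hmon : ∀ (d : Fin m →₀ ℕ) (c : ℤ),
      (φ (monomial d c)).IsHomogeneous (∑ i : Fin m, d i * ((i : ℕ) + 1)) := by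
    intro d c
    rw [hφ, aeval_monomial, Finsupp.prod_fintype _ _ (fun i => pow_zero _)]
    refine IsHomogeneous.C_mul ?_ c
    refine IsHomogeneous.prod _ _ _ fun i _ => ?_
    rw [mul_comm]
    exact (esymm_isHomogeneous' (Fin m) _).pow (d i)
  refine ⟨Q, hφQ, ?_⟩
  let low := Q.support.filter fun d => ∑ i : Fin m, d i * ((i : ℕ) + 1) ≤ r
  have h0 : (∑ d ∈ low, monomial d (coeff d Q)) = 0 := by
    refine hinj ?_
    rw [map_zero]
    have hmem : φ (∑ d ∈ low, monomial d (coeff d Q)) ∈ idealOfVars (Fin m) ℤ ^ (r + 1) := by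
      have hsplit := Finset.sum_filter_add_sum_filter_not Q.support
        (fun d => ∑ i : Fin m, d i * ((i : ℕ) + 1) ≤ r) (fun d => φ (monomial d (coeff d Q)))
      rw [← map_sum (s := Q.support), ← Q.as_sum, hφQ] at hsplit
      rw [map_sum, eq_sub_of_add_eq hsplit]
      refine sub_mem (adamsDiff_mem m j r) (Ideal.sum_mem _ fun d hd => ?_)
      rw [mem_pow_idealOfVars_iff]
      intro x hx
      have := (hmon d (coeff d Q)).degree_eq_sum_deg_support hx
      simp only [Finset.mem_filter] at hd
      rw [show x.degree = ∑ i ∈ x.support, x i from rfl, ← this]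
      omega
    rw [mem_pow_idealOfVars_iff] at hmem
    rw [← support_eq_empty, Finset.eq_empty_iff_forall_notMem]
    intro x hx
    have h1 := hmem x hx
    rw [map_sum] at hx
    obtain ⟨d, hd, hxd⟩ := Finset.mem_biUnion.1 (support_sum hx)
    have := (hmon d (coeff d Q)).degree_eq_sum_deg_support hxd
    simp only [low, Finset.mem_filter] at hd
    rw [show x.degree = ∑ i ∈ x.support, x i from rfl, ← this] at h1
    omega
  intro d hd
  by_contra hlt
  have hd' : d ∈ low := Finset.mem_filter.2 ⟨hd, by omega⟩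
  have := congrArg (coeff d) h0
  rw [coeff_sum, Finset.sum_eq_single d (fun b _ hb => by rw [coeff_monomial, if_neg hb])
    (fun h => absurd hd' h), coeff_monomial, if_pos rfl, coeff_zero] at this
  exact mem_support_iff.1 hd this

theorem aeval_adamsDiff (m j r : ℕ) (a : Fin m → R) :
    aeval a (adamsDiff m j r) = ((Finset.univ.val.map a).map fun x => (1 + x) ^ j - 1).esymm r -
      (j : R) ^ r * (Finset.univ.val.map a).esymm r := by
  rw [adamsDiff, map_sub, map_mul, aeval_bind₁, aeval_esymm_eq_multiset_esymm,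
    aeval_esymm_eq_multiset_esymm, Multiset.map_map]
  simp [Function.comp_def]

end Universal

section Adams

/-- Elements of weight `w` on which `ψ^j` is `j^w` modulo weight `w+1`. -/
def AdamsGood (j w : ℕ) (a : A) : Prop :=
  a ∈ gammaFiltration P w ∧ adams P j a - (j : A) ^ w * a ∈ gammaFiltration P (w + 1)

theorem AdamsGood.adams_mem {j w : ℕ} {a : A} (h : AdamsGood P j w a) :
    adams P j a ∈ gammaFiltration P w := by
  simpa using add_mem (gf_anti P (Nat.le_succ w) h.2) (gf_smul_mem P w ((j : A) ^ w) h.1)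

variable (hP : HasSplitting A P)
include hP

theorem AdamsGood.mul {j v w : ℕ} {a b : A} (ha : AdamsGood P j v a) (hb : AdamsGood P j w b) :
    AdamsGood P j (v + w) (a * b) := by
  refine ⟨gf_mul P ha.1 hb.1, ?_⟩
  have e : adams P j (a * b) - (j : A) ^ (v + w) * (a * b) =
      (adams P j a - (j : A) ^ v * a) * adams P j b +
        (j : A) ^ v * (a * (adams P j b - (j : A) ^ w * b)) := by
    rw [adams_mul P hP, pow_add]; ring
  rw [e]
  refine add_mem ?_ (gf_smul_mem P _ _ ?_)
  · rw [show v + w + 1 = v + 1 + w by omega]; exact gf_mul P ha.2 (AdamsGood.adams_mem P hb)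
  · rw [show v + w + 1 = v + (w + 1) by omega]; exact gf_mul P ha.1 hb.2

omit hP in
theorem adamsGood_one (j : ℕ) : AdamsGood P j 0 (1 : A) :=
  ⟨by rw [gf_zero]; trivial, by simp [adams_one_arg]⟩

theorem adamsGood_gamma_pos (j : ℕ) {e : A} (he : e ∈ P.pos) (r : ℕ) :
    AdamsGood P j r (gamma r (e - ((P.aug e).toNat : A))) := by
  have h0 : P.aug (e - ((P.aug e).toNat : A)) = 0 := by
    rw [map_sub, map_natCast, Int.toNat_of_nonneg (P.aug_pos e he).le, sub_self]
  refine ⟨gamma_mem_gf P h0 r, ?_⟩
  obtain ⟨L, g, hg, hL, h⟩ := exists_split P hP [e] (by simp [he])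
  obtain ⟨s, hs, hse⟩ := h e (by simp)
  set y := e - ((P.aug e).toNat : A) with hy
  set t := s.map fun u => u - 1 with ht
  have hgy : ∀ k, g (gamma k y) = t.esymm k := by
    intro k
    rw [gamma_map hg.isLambdaHom, hy, map_sub, map_natCast, ← hse, ← hg.aug_comp, ← hse,
      card_of_sum hs rfl]
    exact gamma_sum_lines (lam_one_arg L.posStr) (fun u hu => line_lam (hs u hu)) k
  let a : Fin t.toList.length → L.carrier := t.toList.get
  have ha : (Finset.univ.val.map a) = t := by
    conv_rhs => rw [← Multiset.coe_toList t]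
    rw [Fin.univ_val_map, List.ofFn_get]
  obtain ⟨Q, hQ, hsupp⟩ := exists_adamsDiff_poly t.toList.length j r
  have hQ' := congrArg (MvPolynomial.aeval a) hQ
  rw [aeval_adamsDiff, ha, MvPolynomial.comp_aeval_apply] at hQ'
  simp only [MvPolynomial.aeval_esymm_eq_multiset_esymm, ha] at hQ'
  have key : adams P j (gamma r y) - (j : A) ^ r * gamma r y =
      MvPolynomial.aeval (fun i : Fin t.toList.length => gamma ((i : ℕ) + 1) y) Q := by
    apply hg.injective
    rw [map_sub, adams_map hg, map_mul, map_pow, map_natCast, hgy, map_aeval_int]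
    simp only [hgy]
    rw [hQ', ← adamsRingHom_apply L.posStr hL, Multiset.esymm, map_multiset_sum, Multiset.map_map]
    congr 1
    rw [Multiset.esymm, ht, Multiset.map_map, Multiset.powersetCard_map, Multiset.powersetCard_map,
      Multiset.map_map, Multiset.map_map]
    congr 1
    refine Multiset.map_congr rfl fun v hv => ?_
    simp only [Function.comp_apply, map_multiset_prod, Multiset.map_map]
    congr 1
    refine Multiset.map_congr rfl fun u hu => ?_
    have hu' := hs u (Multiset.mem_of_le (Multiset.mem_powersetCard.1 hv).1 hu)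
    simp [← adamsAdd_apply, adamsRingHom_apply, map_sub]
    simp [adamsAdd_apply, adams_line hu', adams_one_arg]
  rw [key, Q.as_sum, map_sum]
  refine sum_mem fun d hd => gf_anti P (hsupp d hd) ?_
  rw [MvPolynomial.aeval_monomial, Finsupp.prod_fintype _ _ (fun i => pow_zero _)]
  refine gf_smul_mem P _ _ ?_
  induction (Finset.univ : Finset (Fin t.toList.length)) using Finset.cons_induction with
  | empty => rw [Finset.sum_empty, gf_zero]; trivial
  | cons i s hi ih =>
    rw [Finset.sum_cons, Finset.prod_cons]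
    exact gf_mul P ((isFilt_gfIdeal P).prod_pow_mem (gamma_mem_gf P h0 _) _) ih

theorem adamsGood_gamma (j : ℕ) {x : A} (hx : P.aug x = 0) (r : ℕ) :
    AdamsGood P j r (gamma r x) := by
  refine ⟨gamma_mem_gf P hx r, ?_⟩
  suffices H : ∀ a b : A, P.aug a = 0 → P.aug b = 0 →
      (∀ n, AdamsGood P j n (gamma n a)) → (∀ n, AdamsGood P j n (gamma n b)) →
      ∀ n, AdamsGood P j n (gamma n (a - b)) by
    obtain ⟨e, f, he, hf, rfl⟩ := P.exists_sub x
    have hef : P.aug e = P.aug f := by rwa [map_sub, sub_eq_zero] at hx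
    rw [show e - f = (e - ((P.aug e).toNat : A)) - (f - ((P.aug f).toNat : A)) by rw [hef]; ring]
    refine (H _ _ ?_ ?_ (adamsGood_gamma_pos P hP j he) (adamsGood_gamma_pos P hP j hf) r).2
    · rw [map_sub, map_natCast, Int.toNat_of_nonneg (P.aug_pos e he).le, sub_self]
    · rw [map_sub, map_natCast, Int.toNat_of_nonneg (P.aug_pos f hf).le, sub_self]
  intro a b ha hb hGa hGb
  have hadd : ∀ {w : ℕ} {u v : A}, AdamsGood P j w u → AdamsGood P j w v →
      AdamsGood P j w (u + v) := fun {w u v} hu hv => ⟨add_mem hu.1 hv.1, by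
    rw [adams_add, show adams P j u + adams P j v - (j : A) ^ w * (u + v) =
      (adams P j u - (j : A) ^ w * u) + (adams P j v - (j : A) ^ w * v) by ring]
    exact add_mem hu.2 hv.2⟩
  have hz : ∀ w : ℕ, AdamsGood P j w 0 := fun w => ⟨zero_mem _, by
    rw [← adamsAdd_apply, map_zero, mul_zero, sub_zero]; exact zero_mem _⟩
  have hneg : ∀ n, AdamsGood P j n (gamma n (-b)) := by
    intro n
    induction n using Nat.strong_induction_on with
    | h n ih =>
      cases n with
      | zero => rw [gamma_zero]; exact adamsGood_one P j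
      | succ m =>
        rw [gamma_neg]
        have hsum : AdamsGood P j (m + 1)
            (∑ i ∈ range (m + 1), gamma (i + 1) b * gamma (m - i) (-b)) := by
          refine Finset.sum_induction _ (AdamsGood P j (m + 1)) (fun _ _ => hadd) (hz _) fun i hi => ?_
          simp only [mem_range] at hi
          have := AdamsGood.mul P hP (hGb (i + 1)) (ih (m - i) (by omega))
          rwa [show i + 1 + (m - i) = m + 1 by omega] at this
        refine ⟨neg_mem hsum.1, ?_⟩
        rw [← adamsAdd_apply, map_neg, mul_neg, ← neg_sub', adamsAdd_apply]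
        exact neg_mem hsum.2
  intro n
  rw [sub_eq_add_neg, gamma_add]
  refine Finset.sum_induction _ (AdamsGood P j n) (fun _ _ => hadd) (hz _) fun i hi => ?_
  simp only [mem_range] at hi
  have := AdamsGood.mul P hP (hGa i) (hneg (n - i))
  rwa [show i + (n - i) = n by omega] at this

theorem adams_sub_pow_mem (j : ℕ) (n : ℕ) {x : A} (hx : x ∈ gammaFiltration P n) :
    adams P j x - (j : A) ^ n * x ∈ gammaFiltration P (n + 1) := by
  rcases eq_or_ne n 0 with rfl | hn
  · rw [zero_add, pow_zero, one_mul]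
    exact mem_gf_one P (by rw [map_sub, aug_adams P hP, sub_self])
  refine gf_induction P hn (p := fun y => adams P j y - (j : A) ^ n * y ∈ gammaFiltration P (n + 1))
    (fun l hl hs => ?_) (by rw [← adamsAdd_apply, map_zero, mul_zero, sub_zero]; exact zero_mem _)
    (fun a b ha hb => by
      rw [adams_add, mul_add, add_sub_add_comm]; exact add_mem ha hb)
    (fun a ha => by
      rw [← adamsAdd_apply, map_neg, mul_neg, ← neg_sub', adamsAdd_apply]; exact neg_mem ha) hx
  have H : AdamsGood P j (l.map Prod.fst).sum (l.map fun q => gamma q.1 q.2).prod := by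
    clear hs
    induction l with
    | nil => simpa using adamsGood_one P j
    | cons q l ih =>
      simp only [List.map_cons, List.sum_cons, List.prod_cons]
      exact AdamsGood.mul P hP (adamsGood_gamma P hP j (hl q List.mem_cons_self) _)
        (ih fun z hz => hl z (List.mem_cons_of_mem _ hz))
  rcases hs.lt_or_eq with h | h
  · exact sub_mem (gf_anti P h (AdamsGood.adams_mem P H)) (gf_smul_mem P _ _ (gf_anti P h H.1))
  · rw [h]; exact H.2

theorem adams_mem_gf (j : ℕ) (n : ℕ) {x : A} (hx : x ∈ gammaFiltration P n) :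
    adams P j x ∈ gammaFiltration P n := by
  simpa using add_mem (gf_anti P (Nat.le_succ n) (adams_sub_pow_mem P hP j n hx))
    (gf_smul_mem P n ((j : A) ^ n) hx)

end Adams

end LambdaSpLib
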