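import Groth.Agent.LambdaSpL.Special
import Groth.Agent.LambdaSpL.Pre
import Groth.Prelude.Def_LambdaRing

/-! λ-rings with positive structure and the splitting property. -/

namespace LambdaSpLib

open Finset LambdaRing

universe u

variable {A : Type u} [CommRing A] [LambdaOps A]

section Pre

theorem lam_add_line {a : A} (ha : ∀ j : ℕ, 2 ≤ j → LambdaOps.lam j a = 0) (n : ℕ) (x : A) :
    LambdaOps.lam (n + 1) (x + a) = LambdaOps.lam (n + 1) x + a * LambdaOps.lam n x := by
  rw [LambdaOps.lam_add, sum_range_succ, sum_range_succ, sum_eq_zero fun i hi => by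
    simp only [mem_range] at hi
    rw [ha _ (by omega), mul_zero], zero_add, Nat.sub_self, LambdaOps.lam_zero, mul_one,
    show n + 1 - n = 1 by omega, LambdaOps.lam_one, mul_comm, add_comm]

omit [LambdaOps A] in
theorem esymm_cons_succ (a : A) (s : Multiset A) (n : ℕ) :
    (a ::ₘ s).esymm (n + 1) = s.esymm (n + 1) + a * s.esymm n := by
  simp [Multiset.esymm, Multiset.map_map, Multiset.sum_map_mul_left]

omit [LambdaOps A] in
theorem esymm_eq_zero_of_card_lt (s : Multiset A) {n : ℕ} (h : s.card < n) : s.esymm n = 0 := by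
  simp [Multiset.esymm, Multiset.powersetCard_eq_empty n h]

omit [LambdaOps A] in
theorem esymm_zero' (s : Multiset A) : s.esymm 0 = 1 := by simp [Multiset.esymm]

theorem lam_sum_lines {s : Multiset A} (hs : ∀ u ∈ s, ∀ j : ℕ, 2 ≤ j → LambdaOps.lam j u = 0) :
    ∀ n, LambdaOps.lam n s.sum = s.esymm n := by
  induction s using Multiset.induction_on with
  | empty =>
    intro n
    cases n with
    | zero => simp [LambdaOps.lam_zero, Multiset.esymm]
    | succ m => simp [lam_zero_arg, Multiset.esymm]
  | cons a s ih =>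
    intro n
    have hs' := ih fun u hu => hs u (Multiset.mem_cons_of_mem hu)
    cases n with
    | zero => rw [LambdaOps.lam_zero, esymm_zero']
    | succ m =>
      rw [Multiset.sum_cons, add_comm a, lam_add_line (hs a (Multiset.mem_cons_self a s)), hs', hs',
        esymm_cons_succ]

theorem adamsOp_sum_lines {s : Multiset A} (hs : ∀ u ∈ s, ∀ j : ℕ, 2 ≤ j → LambdaOps.lam j u = 0)
    {k : ℕ} (hk : 1 ≤ k) : adamsOp k s.sum = (s.map fun u => u ^ k).sum :=
  adamsOp_eq_of_newtonRel
    ((newtonRel_esymm s).congr (fun n => (lam_sum_lines hs n).symm) fun _ _ => rfl) k hk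

theorem gamma_sum_lines (h1 : ∀ k : ℕ, 2 ≤ k → LambdaOps.lam k (1 : A) = 0) {s : Multiset A}
    (hs : ∀ u ∈ s, ∀ j : ℕ, 2 ≤ j → LambdaOps.lam j u = 0) :
    ∀ k, gamma k (s.sum - (s.card : A)) = (s.map fun u => u - 1).esymm k := by
  induction s using Multiset.induction_on with
  | empty =>
    intro k
    cases k with
    | zero => simp [gamma_zero, Multiset.esymm]
    | succ m => simp [gamma_zero_arg, Multiset.esymm]
  | cons a s ih =>
    intro k
    have hs' := ih fun u hu => hs u (Multiset.mem_cons_of_mem hu)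
    cases k with
    | zero => rw [gamma_zero, esymm_zero']
    | succ m =>
      have ha := hs a (Multiset.mem_cons_self a s)
      have hv : ∀ j, 2 ≤ j → gamma j (a - 1) = 0 := fun j hj => by
        have := gamma_sub_rank_eq_zero h1 (d := 1) (N := a) (fun i hi => ha i (by omega))
          (k := j) (by omega)
        simpa using this
      rw [Multiset.sum_cons, Multiset.card_cons, Nat.cast_succ,
        show a + s.sum - ((s.card : A) + 1) = (s.sum - (s.card : A)) + (a - 1) by ring, gamma_add,
        sum_range_succ, sum_range_succ, sum_eq_zero fun i hi => by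
          simp only [mem_range] at hi
          rw [hv _ (by omega), mul_zero],
        zero_add, Nat.sub_self, gamma_zero, mul_one, show m + 1 - m = 1 by omega, gamma_one, hs', hs',
        Multiset.map_cons, esymm_cons_succ]
      ring

theorem gamma_map {B : Type u} [CommRing B] [LambdaOps B] {f : A →+* B} (hf : IsLambdaHom f)
    (k : ℕ) (x : A) : f (gamma k x) = gamma k (f x) := by
  rw [gamma_eq_gamT, gamma_eq_gamT, map_gamT]
  congr 1
  funext n
  exact hf n x

theorem adamsOp_map {B : Type u} [CommRing B] [LambdaOps B] {f : A →+* B} (hf : IsLambdaHom f)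
    {k : ℕ} (hk : 1 ≤ k) (x : A) : f (adamsOp k x) = adamsOp k (f x) := by
  rw [adamsOp_eq_gSeq x k hk, adamsOp_eq_gSeq (f x) k hk, map_gSeq f (LambdaOps.lam_zero x) k hk]
  congr 1
  funext n
  exact hf n x

end Pre

section Pos

variable (P : PosStructure A)

theorem one_mem_pos : (1 : A) ∈ P.pos := by simpa using P.natCast_mem 1 one_pos

theorem isLine_one : P.IsLine 1 := ⟨one_mem_pos P, map_one _⟩

include P in
theorem lam_one_arg (k : ℕ) (hk : 2 ≤ k) : LambdaOps.lam k (1 : A) = 0 :=
  P.lam_eq_zero 1 (one_mem_pos P) k (by rw [map_one]; omega)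

variable {P}

theorem line_lam {u : A} (hu : P.IsLine u) (j : ℕ) (hj : 2 ≤ j) :
    LambdaOps.lam j u = 0 :=
  P.lam_eq_zero u hu.1 j (by rw [hu.2]; omega)

theorem line_mul {u v : A} (hu : P.IsLine u) (hv : P.IsLine v) : P.IsLine (u * v) :=
  ⟨P.mul_mem u v hu.1 hv.1, by rw [map_mul, hu.2, hv.2, one_mul]⟩

theorem line_pow {u : A} (hu : P.IsLine u) (n : ℕ) : P.IsLine (u ^ n) := by
  induction n with
  | zero => rw [pow_zero]; exact isLine_one P
  | succ n ih => rw [pow_succ]; exact line_mul ih hu

theorem aug_sum_lines {s : Multiset A} (hs : ∀ u ∈ s, P.IsLine u) : P.aug s.sum = s.card := by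
  rw [map_multiset_sum, Multiset.map_congr rfl (fun u hu => (hs u hu).2)]
  simp

theorem card_of_sum {s : Multiset A} (hs : ∀ u ∈ s, P.IsLine u) {e : A} (h : s.sum = e) :
    (P.aug e).toNat = s.card := by
  rw [← h, aug_sum_lines hs, Int.toNat_natCast]

variable (P)

theorem adams_zero_eq (x : A) : adams P 0 x = (P.aug x : A) := by
  rw [adams, adamsSeries, map_sub, PowerSeries.coeff_C, if_pos rfl]
  simp [PowerSeries.coeff_zero_eq_constantCoeff]

theorem adams_succ_eq (k : ℕ) (x : A) : adams P (k + 1) x = adamsOp (k + 1) x := by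
  have hd : PowerSeries.derivative A (PowerSeries.rescale (-1 : A) (lamSeries x)) =
      PowerSeries.C (-1 : A) * PowerSeries.rescale (-1 : A) (PowerSeries.derivative A (lamSeries x)) := by
    ext n
    rw [PowerSeries.coeff_C_mul, PowerSeries.coeff_derivative, PowerSeries.coeff_rescale,
      PowerSeries.coeff_rescale, PowerSeries.coeff_derivative]
    ring
  have h0 : PowerSeries.constantCoeff (lamSeries x) = ((1 : Aˣ) : A) := by
    simp [lamSeries, ← PowerSeries.coeff_zero_eq_constantCoeff, LambdaOps.lam_zero]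
  have h0' : PowerSeries.constantCoeff (PowerSeries.rescale (-1 : A) (lamSeries x)) = ((1 : Aˣ) : A) := by
    rw [← PowerSeries.coeff_zero_eq_constantCoeff, PowerSeries.coeff_rescale, pow_zero, one_mul,
      PowerSeries.coeff_zero_eq_constantCoeff]
    exact h0
  have hi : (PowerSeries.rescale (-1 : A) (lamSeries x)).invOfUnit 1 =
      PowerSeries.rescale (-1 : A) ((lamSeries x).invOfUnit 1) := by
    refine (left_inv_eq_right_inv (a := PowerSeries.rescale (-1 : A) (lamSeries x)) ?_ ?_).symm
    · rw [← map_mul, mul_comm, PowerSeries.mul_invOfUnit _ 1 h0, map_one]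
    · rw [PowerSeries.mul_invOfUnit _ 1 h0']
  rw [adams, adamsSeries, map_sub, PowerSeries.coeff_C, if_neg (Nat.succ_ne_zero k), mul_assoc,
    PowerSeries.coeff_succ_X_mul, hd, hi, mul_assoc, PowerSeries.coeff_C_mul, ← map_mul,
    PowerSeries.coeff_rescale, adamsOp, logDerivSeries]
  ring

theorem adams_add (j : ℕ) (x y : A) : adams P j (x + y) = adams P j x + adams P j y := by
  cases j with
  | zero => simp [adams_zero_eq]
  | succ k => simp only [adams_succ_eq]; exact adamsOp_add _ (Nat.le_add_left 1 k) x y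

/-- `adams` as an additive map. -/
noncomputable def adamsAdd (j : ℕ) : A →+ A :=
  AddMonoidHom.mk' (adams P j) (adams_add P j)

theorem adamsAdd_apply (j : ℕ) (x : A) : adamsAdd P j x = adams P j x := rfl

variable {P}

theorem adams_sum_lines {s : Multiset A} (hs : ∀ u ∈ s, P.IsLine u) (j : ℕ) :
    adams P j s.sum = (s.map fun u => u ^ j).sum := by
  cases j with
  | zero => simp [adams_zero_eq, aug_sum_lines hs]
  | succ k =>
    rw [adams_succ_eq]
    exact adamsOp_sum_lines (fun u hu => line_lam (hs u hu)) (Nat.le_add_left 1 k)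

theorem adams_line {u : A} (hu : P.IsLine u) (j : ℕ) : adams P j u = u ^ j := by
  simpa using adams_sum_lines (s := {u}) (by simpa using hu) j

theorem adams_one_arg (j : ℕ) : adams P j 1 = 1 := by rw [adams_line (isLine_one P), one_pow]

variable {B : Type u} [CommRing B] [LambdaOps B] {Q : PosStructure B} {f : A →+* B}

theorem adams_map (hf : IsExtension P Q f) (j : ℕ) (x : A) :
    f (adams P j x) = adams Q j (f x) := by
  cases j with
  | zero => rw [adams_zero_eq, adams_zero_eq, map_intCast, hf.aug_comp]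
  | succ k =>
    rw [adams_succ_eq, adams_succ_eq]
    exact adamsOp_map hf.isLambdaHom (Nat.le_add_left 1 k) x

theorem line_map (hf : IsExtension P Q f) {u : A} (hu : P.IsLine u) : Q.IsLine (f u) :=
  ⟨hf.pos_subset u hu.1, by rw [hf.aug_comp, hu.2]⟩

theorem isExtension_comp {C : Type u} [CommRing C] [LambdaOps C] {R : PosStructure C} {g : B →+* C}
    (hf : IsExtension P Q f) (hg : IsExtension Q R g) : IsExtension P R (g.comp f) where
  isLambdaHom i x := by
    show g (f (LambdaOps.lam i x)) = LambdaOps.lam i (g (f x))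
    rw [hf.isLambdaHom, hg.isLambdaHom]
  injective := hg.injective.comp hf.injective
  aug_comp x := (hg.aug_comp _).trans (hf.aug_comp x)
  pos_subset e he := hg.pos_subset _ (hf.pos_subset e he)

theorem isExtension_id : IsExtension P P (RingHom.id A) :=
  ⟨fun _ _ => rfl, Function.injective_id, fun _ => rfl, fun _ he => he⟩

variable (P)

theorem exists_split (hP : HasSplitting A P) (l : List A) (hl : ∀ e ∈ l, e ∈ P.pos) :
    ∃ (L : PosLambdaRing.{u}) (g : A →+* L.carrier), IsExtension P L.posStr g ∧
      HasSplitting L.carrier L.posStr ∧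
      ∀ e ∈ l, ∃ s : Multiset L.carrier, (∀ u ∈ s, L.posStr.IsLine u) ∧ s.sum = g e := by
  obtain ⟨C, hC, hs⟩ := hP
  suffices ∃ L ∈ C, ∃ g : A →+* L.carrier, IsExtension P L.posStr g ∧
      ∀ e ∈ l, ∃ s : Multiset L.carrier, (∀ u ∈ s, L.posStr.IsLine u) ∧ s.sum = g e by
    obtain ⟨L, hL, g, hg, h⟩ := this
    exact ⟨L, g, hg, ⟨C, hL, hs⟩, h⟩
  induction l with
  | nil => exact ⟨_, hC, RingHom.id A, isExtension_id, by simp⟩
  | cons e l ih =>
    obtain ⟨L, hL, g, hg, h⟩ := ih fun x hx => hl x (List.mem_cons_of_mem _ hx)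
    obtain ⟨L', hL', f', hf', s, hsl, hsum⟩ :=
      hs L hL (g e) (hg.pos_subset e (hl e List.mem_cons_self))
    refine ⟨L', hL', f'.comp g, isExtension_comp hg hf', fun x hx => ?_⟩
    rcases List.mem_cons.1 hx with rfl | hx
    · exact ⟨s, hsl, hsum⟩
    · obtain ⟨t, ht, htsum⟩ := h x hx
      refine ⟨t.map f', fun v hv => ?_, ?_⟩
      · obtain ⟨w, hw, rfl⟩ := Multiset.mem_map.1 hv
        exact line_map hf' (ht w hw)
      · rw [← map_multiset_sum, htsum]; rfl

theorem adams_mul (hP : HasSplitting A P) (j : ℕ) (x y : A) :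
    adams P j (x * y) = adams P j x * adams P j y := by
  have key : ∀ e ∈ P.pos, ∀ e' ∈ P.pos, adams P j (e * e') = adams P j e * adams P j e' := by
    intro e he e' he'
    obtain ⟨L, g, hg, -, h⟩ := exists_split P hP [e, e'] (by simp [he, he'])
    obtain ⟨s, hs, hse⟩ := h e (by simp)
    obtain ⟨t, ht, hte⟩ := h e' (by simp)
    apply hg.injective
    rw [adams_map hg, map_mul, map_mul, adams_map hg, adams_map hg, ← hse, ← hte,
      adams_sum_lines hs, adams_sum_lines ht]
    have hst : ∀ u ∈ s.bind (fun a => t.map fun b => a * b), L.posStr.IsLine u := by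
      intro u hu
      simp only [Multiset.mem_bind, Multiset.mem_map] at hu
      obtain ⟨a, ha, b, hb, rfl⟩ := hu
      exact line_mul (hs a ha) (ht b hb)
    have h2 := adams_sum_lines hst j
    rw [Multiset.sum_bind, Multiset.map_congr rfl fun a _ => Multiset.sum_map_mul_left,
      Multiset.map_id', Multiset.sum_map_mul_right, Multiset.map_id'] at h2
    simpa [Multiset.sum_bind, Multiset.sum_map_mul_left, Multiset.sum_map_mul_right,
      Multiset.map_bind, Multiset.map_map, mul_pow, Function.comp_def] using h2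
  obtain ⟨e, f, he, hf, rfl⟩ := P.exists_sub x
  obtain ⟨e', f', he', hf', rfl⟩ := P.exists_sub y
  simp only [← adamsAdd_apply] at key ⊢
  simp only [sub_mul, mul_sub, map_sub, key _ he _ he', key _ he _ hf', key _ hf _ he',
    key _ hf _ hf']

/-- The Adams operations of a split λ-ring with positive structure as ring maps. -/
noncomputable def adamsRingHom (hP : HasSplitting A P) (j : ℕ) : A →+* A where
  __ := adamsAdd P j
  map_one' := adams_one_arg j
  map_mul' := adams_mul P hP j

theorem adamsRingHom_apply (hP : HasSplitting A P) (j : ℕ) (x : A) :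
    adamsRingHom P hP j x = adams P j x := rfl

theorem adams_comp (hP : HasSplitting A P) (i j : ℕ) (x : A) :
    adams P i (adams P j x) = adams P (i * j) x := by
  suffices h : ∀ e ∈ P.pos, adams P i (adams P j e) = adams P (i * j) e by
    obtain ⟨e, f, he, hf, rfl⟩ := P.exists_sub x
    have h1 := h e he
    have h2 := h f hf
    simp only [← adamsAdd_apply] at h1 h2 ⊢
    simp only [map_sub, h1, h2]
  intro e he
  obtain ⟨L, g, hg, -, h⟩ := exists_split P hP [e] (by simp [he])
  obtain ⟨s, hs, hse⟩ := h e (by simp)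
  apply hg.injective
  rw [adams_map hg, adams_map hg, adams_map hg, ← hse, adams_sum_lines hs, adams_sum_lines hs,
    adams_sum_lines (s := s.map fun u => u ^ j) (fun v hv => by
      obtain ⟨w, hw, rfl⟩ := Multiset.mem_map.1 hv
      exact line_pow (hs w hw) j), Multiset.map_map]
  simp [Function.comp_def, ← pow_mul, mul_comm j i]

theorem aug_adams (hP : HasSplitting A P) (j : ℕ) (x : A) : P.aug (adams P j x) = P.aug x := by
  suffices h : ∀ e ∈ P.pos, P.aug (adams P j e) = P.aug e by
    obtain ⟨e, f, he, hf, rfl⟩ := P.exists_sub x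
    have h1 := h e he
    have h2 := h f hf
    simp only [← adamsAdd_apply] at h1 h2 ⊢
    simp only [map_sub, h1, h2]
  intro e he
  obtain ⟨L, g, hg, -, h⟩ := exists_split P hP [e] (by simp [he])
  obtain ⟨s, hs, hse⟩ := h e (by simp)
  rw [← hg.aug_comp, ← hg.aug_comp e, adams_map hg, ← hse, adams_sum_lines hs,
    aug_sum_lines hs, aug_sum_lines (fun v hv => by
      obtain ⟨w, hw, rfl⟩ := Multiset.mem_map.1 hv
      exact line_pow (hs w hw) j), Multiset.card_map]

theorem aug_lam (hP : HasSplitting A P) {e : A} (he : e ∈ P.pos) (i : ℕ) :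
    P.aug (LambdaOps.lam i e) = ((P.aug e).toNat.choose i : ℤ) := by
  obtain ⟨L, g, hg, -, h⟩ := exists_split P hP [e] (by simp [he])
  obtain ⟨s, hs, hse⟩ := h e (by simp)
  rw [← hg.aug_comp, ← hg.aug_comp e, hg.isLambdaHom, card_of_sum hs hse, ← hse,
    lam_sum_lines (fun u hu => line_lam (hs u hu)), Multiset.esymm, map_multiset_sum,
    Multiset.map_map, Multiset.map_congr rfl (g := fun _ => (1 : ℤ)) fun t ht => by
      rw [Function.comp_apply, map_multiset_prod, Multiset.map_congr rfl (g := fun _ => (1 : ℤ))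
        fun u hu => (hs u (Multiset.mem_of_le (Multiset.mem_powersetCard.1 ht).1 hu)).2]
      simp]
  simp [Multiset.card_powersetCard]

end Pos

end LambdaSpLib
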