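import Groth.Agent.LambdaSpL.PosFil
import Groth.Prelude.Def_W4bkmilneecrracsp2Inv

/-! Involutions of λ-rings with positive structure. -/

namespace LambdaSpLib

open Finset LambdaRing

universe u

variable {A : Type u} [CommRing A] [LambdaOps A] (P : PosStructure A)
  {inv : A → A} (hV : IsInvolution P inv) (hS : HasInvSplitting P inv)

/-- The involution as a ring map. -/
def invHom : A →+* A where
  toFun := inv
  map_one' := hV.map_one
  map_mul' := hV.map_mul
  map_zero' := by simpa using hV.map_add 0 0
  map_add' := hV.map_add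

theorem invHom_apply (x : A) : invHom P hV x = inv x := rfl

omit hV in
theorem esymm_card {B : Type u} [CommRing B] (s : Multiset B) : s.esymm s.card = s.prod := by
  induction s using Multiset.induction_on with
  | empty => simp [Multiset.esymm]
  | cons a s ih =>
    rw [Multiset.card_cons, esymm_cons_succ, esymm_eq_zero_of_card_lt s (Nat.lt_succ_self _), ih,
      zero_add, Multiset.prod_cons]

omit hV in
theorem esymm_map_inv_mul_prod {B : Type u} [CommRing B] (g : B → B) (s : Multiset B)
    (hg : ∀ u ∈ s, g u * u = 1) :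
    ∀ k ≤ s.card, (s.map g).esymm k * s.prod = s.esymm (s.card - k) := by
  induction s using Multiset.induction_on with
  | empty => intro k hk; simp at hk; subst hk; simp [Multiset.esymm]
  | cons a s ih =>
    intro k hk
    have ih' := ih fun u hu => hg u (Multiset.mem_cons_of_mem hu)
    rw [Multiset.card_cons] at hk ⊢
    cases k with
    | zero =>
      rw [Nat.sub_zero, esymm_cons_succ, esymm_eq_zero_of_card_lt s (Nat.lt_succ_self _), esymm_card,
        esymm_zero', Multiset.prod_cons, one_mul, zero_add]
    | succ k =>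
      have ha := hg a (Multiset.mem_cons_self a s)
      rw [Multiset.map_cons, esymm_cons_succ, Multiset.prod_cons, Nat.succ_sub_succ, add_mul,
        show g a * (s.map g).esymm k * (a * s.prod) = g a * a * ((s.map g).esymm k * s.prod) by ring,
        ha, one_mul, ih' k (by omega),
        show (s.map g).esymm (k + 1) * (a * s.prod) = a * ((s.map g).esymm (k + 1) * s.prod) by ring]
      rcases Nat.lt_or_ge k s.card with h | h
      · rw [ih' (k + 1) h, show s.card - k = s.card - (k + 1) + 1 by omega, esymm_cons_succ, add_comm]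
      · rw [esymm_eq_zero_of_card_lt (s.map g) (by rw [Multiset.card_map]; omega),
          show s.card - k = 0 by omega, esymm_zero', esymm_zero', zero_mul, mul_zero, zero_add]

omit hV in
theorem sum_alt_esymm {B : Type u} [CommRing B] (s : Multiset B) :
    ∑ i ∈ range (s.card + 1), (-1 : B) ^ i * s.esymm i = (s.map fun u => 1 - u).prod := by
  induction s using Multiset.induction_on with
  | empty => simp [Multiset.esymm]
  | cons a s ih =>
    rw [Multiset.card_cons, sum_range_succ', Multiset.map_cons, Multiset.prod_cons, ← ih]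
    simp only [esymm_cons_succ, mul_add, sum_add_distrib, pow_succ, esymm_zero']
    rw [sum_range_succ' (fun i => (-1 : B) ^ i * s.esymm i), sum_range_succ (fun i => (-1 : B) ^ i * -1 * s.esymm (i + 1)),
      esymm_eq_zero_of_card_lt s (Nat.lt_succ_self _), sub_mul, one_mul, mul_add, mul_sum]
    have e : ∑ x ∈ range (s.card + 1), (-1 : B) ^ x * -1 * (a * s.esymm x) =
        -(a * ∑ x ∈ range (s.card + 1), (-1 : B) ^ x * s.esymm x) := by
      rw [mul_sum, ← sum_neg_distrib]; exact sum_congr rfl fun x _ => by ring
    rw [e, sum_range_succ' (fun i => (-1 : B) ^ i * s.esymm i), esymm_zero', mul_add, mul_sum]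
    simp only [pow_succ, pow_zero]
    ring

include hV hS in
theorem lam_eq_lam_inv {e : A} (he : e ∈ P.pos) {i : ℕ} (hi : i ≤ (P.aug e).toNat) :
    LambdaOps.lam i e =
      LambdaOps.lam ((P.aug e).toNat - i) (inv e) * LambdaOps.lam (P.aug e).toNat e := by
  obtain ⟨L, inv', f, hf, hV', hc, s, hs, hse⟩ := hS e he
  have hm : (P.aug e).toNat = s.card := by rw [← hf.aug_comp]; exact card_of_sum hs hse
  apply hf.injective
  rw [map_mul, hf.isLambdaHom, hf.isLambdaHom, hf.isLambdaHom, hc, ← hse, hm,
    ← invHom_apply L.posStr hV', map_multiset_sum,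
    lam_sum_lines (fun u hu => line_lam (hs u hu)),
    lam_sum_lines (fun u hu => line_lam (hs u hu)),
    lam_sum_lines (fun u hu => by
      obtain ⟨w, hw, rfl⟩ := Multiset.mem_map.1 hu
      exact line_lam (hV'.inv_line w (hs w hw))),
    esymm_card, esymm_map_inv_mul_prod (⇑(invHom L.posStr hV')) s (fun u hu => hV'.inv_mul_self u (hs u hu)) _
      (Nat.sub_le _ _)]
  congr 1
  omega

theorem lamAlt_mem {q : A} (hq : q ∈ P.pos) :
    (∑ i ∈ range ((P.aug q).toNat + 1), (-1 : A) ^ i * LambdaOps.lam i q) ∈
      gammaFiltration P (P.aug q).toNat := by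
  set m := (P.aug q).toNat with hm
  have hN : ∀ i, m < i → LambdaOps.lam i q = 0 := fun i hi => by
    refine P.lam_eq_zero q hq i ?_
    have := (P.aug_pos q hq).le
    omega
  have hmem : (∑ i ∈ range (m + 1), (-1 : A) ^ i * LambdaOps.lam i q) =
      (-1) ^ m * gamma m (q - (m : A)) := by
    rw [gamma_sub_rank_top (lam_one_arg P) hN, ← mul_assoc, ← pow_add, Even.neg_one_pow ⟨m, rfl⟩,
      one_mul]
  rw [hmem]
  refine gf_smul_mem P _ _ (gamma_mem_gf P ?_ _)
  rw [map_sub, map_natCast, hm, Int.toNat_of_nonneg (P.aug_pos q hq).le, sub_self]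

include hV hS in
theorem gamma_inv_sub_lamAlt_mem (hP : HasSplitting A P) {q : A} (hq : q ∈ P.pos) :
    gamma (P.aug q).toNat (inv q - ((P.aug q).toNat : A)) -
        (∑ i ∈ range ((P.aug q).toNat + 1), (-1 : A) ^ i * LambdaOps.lam i q) ∈
      gammaFiltration P ((P.aug q).toNat + 1) := by
  set m := (P.aug q).toNat with hm
  obtain ⟨L, inv', f, hf, hV', hc, s, hs, hse⟩ := hS q hq
  have hcard : m = s.card := by rw [hm, ← hf.aug_comp]; exact card_of_sum hs hse
  have key : gamma m (inv q - (m : A)) -
      (∑ i ∈ range (m + 1), (-1 : A) ^ i * LambdaOps.lam i q) =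
      (inv (LambdaOps.lam m q) - 1) * ∑ i ∈ range (m + 1), (-1 : A) ^ i * LambdaOps.lam i q := by
    apply hf.injective
    have hsum : f (∑ i ∈ range (m + 1), (-1 : A) ^ i * LambdaOps.lam i q) =
        (s.map fun u => 1 - u).prod := by
      rw [map_sum]
      simp only [map_mul, map_pow, map_neg, map_one, fun i => hf.isLambdaHom i q, ← hse,
        lam_sum_lines (fun u hu => line_lam (hs u hu)), hcard]
      exact sum_alt_esymm s
    rw [map_sub, map_mul, map_sub, map_one, gamma_map hf.isLambdaHom, map_sub, map_natCast, hc, hc,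
      hf.isLambdaHom, hsum, ← hse, ← invHom_apply L.posStr hV', ← invHom_apply L.posStr hV',
      map_multiset_sum, lam_sum_lines (fun u hu => line_lam (hs u hu)), hcard, esymm_card,
      map_multiset_prod]
    have hg := gamma_sum_lines (lam_one_arg L.posStr) (s := s.map (invHom L.posStr hV'))
      (fun u hu => by
        obtain ⟨w, hw, rfl⟩ := Multiset.mem_map.1 hu
        exact line_lam (hV'.inv_line w (hs w hw))) (s.map (invHom L.posStr hV')).card
    rw [Multiset.card_map] at hg
    rw [hg, show s.card = ((s.map (invHom L.posStr hV')).map fun u => u - 1).card by simp,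
      esymm_card, Multiset.map_map, sub_mul, one_mul, sub_left_inj, ← Multiset.prod_map_mul]
    refine congrArg Multiset.prod (Multiset.map_congr rfl fun u hu => ?_)
    have hu' := hV'.inv_mul_self u (hs u hu)
    simp only [Function.comp_apply, invHom_apply]
    linear_combination hu'
  rw [key]
  refine gf_anti P (show m + 1 ≤ 1 + m by omega) (gf_mul P (mem_gf_one P ?_) (lamAlt_mem P hq))
  rw [map_sub, map_one, hV.aug_inv, hm, aug_lam P hP hq, Nat.choose_self]
  norm_num

end LambdaSpLib
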