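import Groth.Agent.LambdaSpL.Special
import Mathlib.RingTheory.PowerSeries.Substitution
import Mathlib.RingTheory.PowerSeries.WellKnown
import Mathlib.RingTheory.PowerSeries.Derivative
import Mathlib.Algebra.Group.ForwardDiff

/-! The transform `t ↦ t/(1-t)` relating `λ` and `γ`, and forward differences in filtered rings. -/

namespace LambdaSpLib

open PowerSeries Finset LambdaRing fwdDiff fwdDiff_aux

universe u v

variable {R : Type u} [CommRing R] {S : Type v} [CommRing S]

/-- The `γ`-sequence of a `λ`-sequence. -/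
def gamT (E : ℕ → R) (n : ℕ) : R :=
  if n = 0 then 1 else
    ∑ j ∈ range (n + 1), (Nat.choose (n - 1) (j - 1) : R) * (if j = 0 then 0 else E j)

theorem gamma_eq_gamT {K : Type u} [CommRing K] [LambdaOps K] (n : ℕ) (x : K) :
    gamma n x = gamT (fun j => LambdaOps.lam j x) n := rfl

@[simp] theorem gamT_zero (E : ℕ → R) : gamT E 0 = 1 := rfl

theorem gamT_succ (E : ℕ → R) (n : ℕ) :
    gamT E (n + 1) = ∑ j ∈ range (n + 1), (Nat.choose n j : R) * E (j + 1) := by
  simp [gamT, sum_range_succ']

theorem gamT_one (E : ℕ → R) : gamT E 1 = E 1 := by simp [gamT_succ]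

theorem map_gamT (f : R →+* S) (E : ℕ → R) (n : ℕ) : f (gamT E n) = gamT (f ∘ E) n := by
  cases n with
  | zero => simp
  | succ n => simp [gamT_succ, map_sum]

theorem gamT_congr {E F : ℕ → R} (n : ℕ) (h : ∀ m, 1 ≤ m → m ≤ n → E m = F m) :
    gamT E n = gamT F n := by
  cases n with
  | zero => simp
  | succ n =>
    simp only [gamT_succ]
    exact sum_congr rfl fun j hj => by rw [h (j + 1) (by omega) (by simp at hj; omega)]

/-- The `λ`-sequence of a `γ`-sequence. -/
def lamT (G : ℕ → R) : ℕ → R
  | 0 => 1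
  | n + 1 => G (n + 1) - ∑ j : Fin n, (Nat.choose n (j : ℕ) : R) * lamT G ((j : ℕ) + 1)
  decreasing_by exact Nat.succ_lt_succ j.isLt

theorem gamT_lamT {G : ℕ → R} (h0 : G 0 = 1) (n : ℕ) : gamT (lamT G) n = G n := by
  cases n with
  | zero => simp [h0]
  | succ n =>
    rw [gamT_succ, sum_range_succ, lamT, Fin.sum_univ_eq_sum_range
      (fun j => (Nat.choose n j : R) * lamT G (j + 1))]
    simp

theorem lamT_gamT {E : ℕ → R} (h0 : E 0 = 1) (n : ℕ) : lamT (gamT E) n = E n := by
  induction n using Nat.strong_induction_on with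
  | h n ih =>
    match n with
    | 0 => rw [lamT, h0]
    | m + 1 =>
      rw [lamT, gamT_succ, sum_range_succ, sum_congr rfl fun (j : Fin m) _ =>
        congrArg (((Nat.choose m (j : ℕ) : R)) * ·) (ih ((j : ℕ) + 1) (by omega)),
        Fin.sum_univ_eq_sum_range (fun j => (Nat.choose m j : R) * E (j + 1)),
        add_sub_cancel_left, Nat.choose_self, Nat.cast_one, one_mul]

theorem map_lamT (f : R →+* S) (G : ℕ → R) (n : ℕ) : f (lamT G n) = lamT (f ∘ G) n := by
  induction n using Nat.strong_induction_on with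
  | h n ih =>
    match n with
    | 0 => simp [lamT]
    | m + 1 =>
      rw [lamT, lamT]
      simp only [map_sub, map_sum, map_mul, map_natCast, Function.comp_apply]
      congr 1
      exact sum_congr rfl fun j _ => by rw [ih _ (by omega)]

/-- The substituted series `t/(1-t)`. -/
noncomputable def tSer : PowerSeries R := X * PowerSeries.mk 1

theorem hasSubst_tSer : HasSubst (tSer (R := R)) :=
  HasSubst.of_constantCoeff_zero' (by simp [tSer])

theorem derivative_tSer : d⁄dX R (tSer (R := R)) = (PowerSeries.mk 1 : PowerSeries R) ^ 2 := by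
  ext n
  rw [mk_one_pow_eq_mk_choose_add, coeff_derivative, tSer, coeff_succ_X_mul]
  simp [add_comm]

theorem coeff_X_pow_mul_mk_one_pow (j d i : ℕ) :
    coeff i (X ^ j * (PowerSeries.mk 1 : PowerSeries R) ^ (d + 1)) =
      if j ≤ i then (Nat.choose (d + (i - j)) d : R) else 0 := by
  rw [coeff_X_pow_mul', mk_one_pow_eq_mk_choose_add]
  simp

theorem coeff_tSer_pow_of_lt {i j : ℕ} (h : i < j) : coeff i ((tSer (R := R)) ^ j) = 0 := by
  rw [tSer, mul_pow, coeff_X_pow_mul', if_neg (by omega)]

theorem coeff_subst_tSer (f : PowerSeries R) (i : ℕ) :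
    coeff i (f.subst tSer) = ∑ j ∈ range (i + 1), coeff j f * coeff i ((tSer (R := R)) ^ j) := by
  rw [coeff_subst' hasSubst_tSer, finsum_eq_sum_of_support_subset _ (s := range (i + 1))]
  · simp
  · intro j hj
    simp only [Function.mem_support, ne_eq, smul_eq_mul] at hj
    simp only [coe_range, Set.mem_Iio]
    by_contra h
    exact hj (by rw [coeff_tSer_pow_of_lt (by omega), mul_zero])

theorem mk_gamT {E : ℕ → R} (h0 : E 0 = 1) : (PowerSeries.mk E).subst tSer = PowerSeries.mk (gamT E) := by
  ext n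
  rw [coeff_subst_tSer, coeff_mk]
  cases n with
  | zero => simp [h0]
  | succ n =>
    rw [gamT_succ, sum_range_succ']
    simp only [coeff_mk, pow_zero, coeff_one, Nat.succ_ne_zero, if_false, mul_zero, add_zero]
    refine sum_congr rfl fun j hj => ?_
    simp only [mem_range] at hj
    rw [tSer, mul_pow, coeff_X_pow_mul_mk_one_pow, if_pos (by omega),
      show j + (n + 1 - (j + 1)) = n by omega, mul_comm]

theorem subst_tSer_mul_derivative (f : PowerSeries R) (i : ℕ) :
    coeff i (f.subst tSer * d⁄dX R (tSer (R := R))) =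
      ∑ j ∈ range (i + 1), coeff j f * (Nat.choose (i + 1) (j + 1) : R) := by
  rw [coeff_mul]
  have h : ∀ p ∈ antidiagonal i, coeff p.1 (f.subst (tSer (R := R))) * coeff p.2 (d⁄dX R tSer) =
      ∑ j ∈ range (i + 1),
        coeff j f * (coeff p.1 ((tSer (R := R)) ^ j) * coeff p.2 (d⁄dX R tSer)) := by
    intro p hp
    rw [coeff_subst_tSer, sum_mul]
    simp only [mem_antidiagonal] at hp
    refine (sum_congr rfl fun j _ => mul_assoc _ _ _).trans ?_
    refine sum_subset (range_mono (by omega)) fun j hj hj' => ?_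
    simp only [mem_range] at hj hj'
    rw [coeff_tSer_pow_of_lt (by omega), zero_mul, mul_zero]
  rw [sum_congr rfl h, sum_comm]
  refine sum_congr rfl fun j hj => ?_
  simp only [mem_range] at hj
  rw [← mul_sum, ← coeff_mul, derivative_tSer, tSer, mul_pow, mul_assoc, ← pow_add,
    show j + 2 = (j + 1) + 1 by rfl, coeff_X_pow_mul_mk_one_pow, if_pos (by omega),
    show j + 1 + (i - j) = i + 1 by omega]

/-- Newton's relation for the `γ`-sequence: forward differences of the power sums. -/
theorem newtonRel_gamT {E f : ℕ → R} (h0 : E 0 = 1) (hf : f 0 = 0) (h : NewtonRel E f) :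
    NewtonRel (gamT E) (fun i => Δ_[1]^[i] f 0) := by
  rw [newtonRel_iff_derivative] at h ⊢
  rw [← mk_gamT h0, derivative_subst hasSubst_tSer, h, subst_mul hasSubst_tSer, mul_assoc,
    mul_comm ((PowerSeries.mk E).subst tSer), ← mul_assoc]
  congr 1
  ext i
  rw [subst_tSer_mul_derivative, coeff_mk, fwdDiff_iter_eq_sum_shift, sum_range_succ' _ (i + 1)]
  simp only [coeff_mk, zero_add, smul_eq_mul, mul_one, mul_zero, hf, smul_zero, add_zero]
  rw [mul_sum]
  refine sum_congr rfl fun j hj => ?_
  simp only [mem_range] at hj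
  rw [zsmul_eq_mul, show i + 1 - (j + 1) = i - j by omega]
  push_cast
  have : ((-1 : R)) ^ i * (-1) ^ (i - j) = (-1) ^ j := by
    rw [← pow_add, show i + (i - j) = j + 2 * (i - j) by omega, pow_add, pow_mul]
    simp
  rw [← this]
  ring

section Filtration

variable (W : ℕ → Ideal R)

/-- A multiplicative filtration. -/
structure IsFilt : Prop where
  zero : W 0 = ⊤
  anti : Antitone W
  mul : ∀ {a b : ℕ} {x y : R}, x ∈ W a → y ∈ W b → x * y ∈ W (a + b)

variable {W}

/-- Functions whose `i`-th differences lie in step `a + i`. -/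
def Cls (W : ℕ → Ideal R) (a : ℕ) (f : ℕ → R) : Prop := ∀ i n, Δ_[1]^[i] f n ∈ W (a + i)

theorem Cls.succ {a : ℕ} {f : ℕ → R} (h : Cls W a f) : Cls W (a + 1) (Δ_[1] f) := fun i n => by
  have := h (i + 1) n
  rwa [Function.iterate_succ_apply, show a + (i + 1) = a + 1 + i by omega] at this

theorem Cls.add {a : ℕ} {f g : ℕ → R} (hf : Cls W a f) (hg : Cls W a g) : Cls W a (f + g) :=
  fun i n => by
  rw [fwdDiff_iter_add]
  exact (W (a + i)).add_mem (hf i n) (hg i n)

theorem Cls.shift {a : ℕ} {f : ℕ → R} (hf : Cls W a f) (c : ℕ) :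
    Cls W a (fun n => f (n + c)) := fun i n => by
  rw [fwdDiff_iter_comp_add]
  exact hf i (n + c)

theorem cls_const {c : R} {a : ℕ} (hc : c ∈ W a) : Cls W a (fun _ => c) := fun i n => by
  cases i with
  | zero => simpa using hc
  | succ i =>
    have e : Δ_[1]^[i] (fun _ : ℕ => (0 : R)) = fun _ => 0 :=
      Function.iterate_fixed (fwdDiff_const 1 0) i
    rw [Function.iterate_succ_apply, fwdDiff_const]
    exact (congrFun e n).symm ▸ (W _).zero_mem

theorem Cls.mul (hW : IsFilt W) {a b : ℕ} {f g : ℕ → R} (hf : Cls W a f) (hg : Cls W b g) :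
    Cls W (a + b) (f * g) := by
  intro i
  induction i generalizing a b f g with
  | zero => intro n; simpa using hW.mul (hf 0 n) (hg 0 n)
  | succ i ih =>
    intro n
    have e : Δ_[1] (f * g) = Δ_[1] f * (fun n => g (n + 1)) + f * Δ_[1] g := by
      funext m
      simp only [fwdDiff, Pi.mul_apply, Pi.add_apply]
      ring
    rw [Function.iterate_succ_apply, e, fwdDiff_iter_add]
    refine (W _).add_mem ?_ ?_
    · have := ih hf.succ (hg.shift 1) n
      rwa [show a + 1 + b + i = a + b + (i + 1) by omega] at this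
    · have := ih hf hg.succ n
      rwa [show a + (b + 1) + i = a + b + (i + 1) by omega] at this

theorem sum_shift_diff (f : ℕ → R) (k n : ℕ) :
    ∑ c ∈ range k, Δ_[1] f (k * n + c) = f (k * n + k) - f (k * n) := by
  induction k generalizing n with
  | zero => simp
  | succ k ih =>
    have : ∀ m, ∑ c ∈ range (k + 1), Δ_[1] f (m + c) = f (m + (k + 1)) - f m := by
      intro m
      simp only [fwdDiff, add_assoc]
      exact sum_range_sub (fun c => f (m + c)) (k + 1)
    exact this _

theorem fwdDiff_iter_sum {α : Type*} (s : Finset α) (f : α → ℕ → R) (i : ℕ) :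
    Δ_[1]^[i] (∑ c ∈ s, f c) = ∑ c ∈ s, Δ_[1]^[i] (f c) := by
  rw [← coe_fwdDiffₗ, ← Module.End.coe_pow, map_sum]

theorem Cls.dilate_aux (k : ℕ) (i : ℕ) : ∀ {a : ℕ} {f : ℕ → R}, Cls W a f → ∀ n,
    Δ_[1]^[i] (fun n => f (k * n)) n ∈ W (a + i) ∧
      Δ_[1]^[i] (fun n => f (k * n)) n - (k : R) ^ i * Δ_[1]^[i] f (k * n) ∈ W (a + i + 1) := by
  induction i with
  | zero => intro a f hf n; exact ⟨hf 0 (k * n), by simp⟩
  | succ i ih =>
    intro a f hf n
    let g : ℕ → R := ∑ c ∈ range k, fun m => Δ_[1] f (m + c)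
    have e : Δ_[1] (fun n => f (k * n)) = fun n => g (k * n) := by
      funext m
      simp only [g, Finset.sum_apply]
      rw [sum_shift_diff]
      simp [fwdDiff, mul_add]
    have hgd : ∀ j m, Δ_[1]^[j] g m = ∑ c ∈ range k, Δ_[1]^[j + 1] f (m + c) := fun j m => by
      simp only [g]
      rw [fwdDiff_iter_sum, Finset.sum_apply]
      refine sum_congr rfl fun c _ => ?_
      rw [fwdDiff_iter_comp_add, ← Function.iterate_succ_apply]
    have hg : Cls W (a + 1) g := fun j m => by
      rw [hgd]
      refine (W _).sum_mem fun c _ => ?_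
      have := hf (j + 1) (m + c)
      rwa [show a + (j + 1) = a + 1 + j by omega] at this
    obtain ⟨h1, h2⟩ := ih hg n
    rw [Function.iterate_succ_apply, e, show a + (i + 1) = a + 1 + i by omega]
    refine ⟨h1, ?_⟩
    have h3 : Δ_[1]^[i] g (k * n) - (k : R) * Δ_[1]^[i + 1] f (k * n) ∈ W (a + 1 + i + 1) := by
      rw [hgd, ← Finset.card_range k, ← nsmul_eq_mul, ← Finset.sum_const, Finset.card_range,
        ← sum_sub_distrib]
      refine (W _).sum_mem fun c _ => ?_
      have hs : ∀ c, Δ_[1]^[i + 1] f (k * n + c) - Δ_[1]^[i + 1] f (k * n) ∈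
          W (a + 1 + i + 1) := by
        intro c
        induction c with
        | zero => simp
        | succ c ihc =>
          have := hf (i + 2) (k * n + c)
          rw [Function.iterate_succ_apply' _ (i + 1), fwdDiff,
            show a + (i + 2) = a + 1 + i + 1 by omega] at this
          have := (W _).add_mem this ihc
          simpa [add_assoc] using this
      exact hs c
    have := (W _).add_mem h2 ((W _).mul_mem_left ((k : R) ^ i) h3)
    convert this using 1
    rw [Function.iterate_succ_apply]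
    ring

theorem Cls.dilate {a : ℕ} {f : ℕ → R} (hf : Cls W a f) (k : ℕ) :
    Cls W a (fun n => f (k * n)) := fun i n => (dilate_aux k i hf n).1

theorem cls_of_zero
    (hW : IsFilt W) {a : ℕ} {f : ℕ → R} (h : ∀ j, Δ_[1]^[j] f 0 ∈ W (a + j)) : Cls W a f := by
  intro i n
  induction n generalizing i with
  | zero => exact h i
  | succ n ih =>
    have e : Δ_[1]^[i] f (n + 1) = Δ_[1]^[i] f n + Δ_[1]^[i + 1] f n := by
      rw [Function.iterate_succ_apply' _ i, fwdDiff]; ring
    rw [e]
    exact (W _).add_mem (ih i) (hW.anti (by omega) (ih (i + 1)))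

end Filtration

end LambdaSpLib
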