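import Groth.Agent.LambdaSpL.Universal
import Mathlib.RingTheory.Localization.FractionRing

/-! The identities of special `λ`-rings in terms of Adams operations. -/

namespace LambdaSpLib

open MvPolynomial Finset LambdaRing

universe u v

variable {R : Type u} [CommRing R] {S : Type v} [CommRing S]

theorem gSeq_congr {E F : ℕ → R} (k : ℕ) (h : ∀ m ≤ k, E m = F m) : gSeq E k = gSeq F k := by
  induction k using Nat.strong_induction_on with
  | h k ih =>
    match k with
    | 0 => rw [gSeq, gSeq]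
    | m + 1 =>
      rw [gSeq, gSeq, h (m + 1) le_rfl]
      congr 2
      refine sum_congr rfl fun i _ => ?_
      rw [h (m - i) (by omega), ih ((i : ℕ) + 1) (by omega) (fun l hl => h l (by omega))]

theorem map_gSeq (f : R →+* S) {E : ℕ → R} (h0 : E 0 = 1) (k : ℕ) (hk : 1 ≤ k) :
    f (gSeq E k) = gSeq (f ∘ E) k :=
  NewtonRel.p_unique (p := f ∘ gSeq E) (by simp [h0]) ((newtonRel_gSeq h0).map f)
    (newtonRel_gSeq (by simp [h0])) k hk

theorem gSeq_fSeq [Algebra ℚ R] (r : ℕ → R) (k : ℕ) (hk : 1 ≤ k) : gSeq (fSeq r) k = r k :=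
  NewtonRel.p_unique (by rw [fSeq]) (newtonRel_gSeq (by rw [fSeq])) (newtonRel_fSeq r) k hk

theorem map_aeval_int [Algebra ℤ R] [Algebra ℤ S] {σ : Type*} (f : R →+* S) (v : σ → R)
    (P : MvPolynomial σ ℤ) : f (aeval v P) = aeval (fun i => f (v i)) P :=
  comp_aeval_apply v ({ f with commutes' := fun z => by simp } : R →ₐ[ℤ] S) P

theorem map_aeval_sum [Algebra ℤ R] [Algebra ℤ S] {α β : Type*} (f : R →+* S) (v : α → R) (w : β → R)
    (P : MvPolynomial (α ⊕ β) ℤ) :
    f (aeval (Sum.elim v w) P) = aeval (Sum.elim (fun i => f (v i)) (fun i => f (w i))) P := by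
  rw [map_aeval_int]
  congr 2
  funext i
  cases i <;> rfl

section Rational

variable [Algebra ℚ R]

theorem mulGen_eq_fSeq (N n : ℕ) :
    MvPolynomial.map (Int.castRingHom ℚ) (mulGen N n) =
      fSeq (fun k => rename Sum.inl (pT ℚ N k) * rename Sum.inr (pT ℚ N k)) n := by
  rw [mulGen, map_multiset_esymm]
  refine fSeq_eq (E := fun n => Multiset.esymm _ n) (by simp [Multiset.esymm]) ?_ n
  refine (newtonRel_esymm _).congr (fun _ => rfl) (fun k _ => ?_)
  simp only [Multiset.map_map, pT, Function.comp_def, map_mul, map_X, mul_pow]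
  show ∑ ab : Fin N × Fin N, (X (Sum.inl ab.1) : MvPolynomial (Fin N ⊕ Fin N) ℚ) ^ k *
    X (Sum.inr ab.2) ^ k = rename Sum.inl (∑ a, X a ^ k) * rename Sum.inr (∑ b, X b ^ k)
  simp [map_sum, map_pow, Finset.sum_mul_sum, Fintype.sum_prod_type]

theorem map_esymm_inl (N k : ℕ) :
    MvPolynomial.map (Int.castRingHom ℚ) (rename (Sum.inl : Fin N → Fin N ⊕ Fin N) (esymm (Fin N) ℤ k)) =
      fSeq (fun l => rename Sum.inl (pT ℚ N l)) k := by
  rw [map_rename, map_esymm, esymm_eq_fSeq, ← AlgHom.coe_toRingHom, map_fSeq]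
  rfl

theorem map_esymm_inr (N k : ℕ) :
    MvPolynomial.map (Int.castRingHom ℚ) (rename (Sum.inr : Fin N → Fin N ⊕ Fin N) (esymm (Fin N) ℤ k)) =
      fSeq (fun l => rename Sum.inr (pT ℚ N l)) k := by
  rw [map_rename, map_esymm, esymm_eq_fSeq, ← AlgHom.coe_toRingHom, map_fSeq]
  rfl

/-- The identity defining `P_n`, in power sums. -/
theorem mulPoly_fSeq {n : ℕ} {P : MvPolynomial (Fin n ⊕ Fin n) ℤ} (hP : IsMulPoly n P) (p q : ℕ → R) :
    aeval (Sum.elim (fun k : Fin n => fSeq p ((k : ℕ) + 1)) (fun k : Fin n => fSeq q ((k : ℕ) + 1))) P =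
      fSeq (p * q) n := by
  let a : ℕ → MvPolynomial (Fin n ⊕ Fin n) ℚ := seqVar 0 Sum.inl
  let b : ℕ → MvPolynomial (Fin n ⊕ Fin n) ℚ := seqVar 0 Sum.inr
  have key : aeval (Sum.elim (fun k : Fin n => fSeq a ((k : ℕ) + 1))
      (fun k : Fin n => fSeq b ((k : ℕ) + 1))) P = fSeq (a * b) n := by
    refine aeval_pT_two_injective n ?_
    let φ := (aeval (R := ℚ) (Sum.elim (fun k : Fin n => rename Sum.inl (pT ℚ n ((k : ℕ) + 1)))
      (fun k : Fin n => rename Sum.inr (pT ℚ n ((k : ℕ) + 1)))) :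
      MvPolynomial (Fin n ⊕ Fin n) ℚ →ₐ[ℚ] MvPolynomial (Fin n ⊕ Fin n) ℚ).toRingHom
    have ha : ∀ l, 1 ≤ l → l ≤ n → φ (a l) = rename Sum.inl (pT ℚ n l) := fun l h1 h2 => by
      simp [φ, a, seqVar, h1, h2, show l - 1 + 1 = l by omega]
    have hb : ∀ l, 1 ≤ l → l ≤ n → φ (b l) = rename Sum.inr (pT ℚ n l) := fun l h1 h2 => by
      simp [φ, b, seqVar, h1, h2, show l - 1 + 1 = l by omega]
    show φ _ = φ _
    rw [map_aeval_sum]
    simp only [map_fSeq]
    have h := congrArg (MvPolynomial.map (Int.castRingHom ℚ)) hP.1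
    rw [map_aeval_sum, mulGen_eq_fSeq] at h
    simp only [map_esymm_inl, map_esymm_inr] at h
    rw [fSeq_congr (p := φ ∘ (a * b)) (q := fun l => rename Sum.inl (pT ℚ n l) * rename Sum.inr (pT ℚ n l))
      fun l h1 h2 => by
      simp only [Function.comp_apply, Pi.mul_apply, map_mul, ha l h1 h2, hb l h1 h2], ← h]
    congr 2
    funext i
    rcases i with k | k
    · exact fSeq_congr fun l h1 h2 => ha l h1 (h2.trans k.isLt)
    · exact fSeq_congr fun l h1 h2 => hb l h1 (h2.trans k.isLt)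
  let ev : MvPolynomial (Fin n ⊕ Fin n) ℚ →+* R :=
    (aeval (Sum.elim (fun k : Fin n => p ((k : ℕ) + 1)) (fun k : Fin n => q ((k : ℕ) + 1)))).toRingHom
  have ha : ∀ l, 1 ≤ l → l ≤ n → ev (a l) = p l := fun l h1 h2 => by
    simp [ev, a, seqVar, h1, h2, show l - 1 + 1 = l by omega]
  have hb : ∀ l, 1 ≤ l → l ≤ n → ev (b l) = q l := fun l h1 h2 => by
    simp [ev, b, seqVar, h1, h2, show l - 1 + 1 = l by omega]
  have h := congrArg ev key
  rw [map_aeval_sum, map_fSeq] at h
  simp only [map_fSeq] at h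
  rw [fSeq_congr (q := p * q) fun l h1 h2 => by
    simp only [Function.comp_apply, Pi.mul_apply, map_mul, ha l h1 h2, hb l h1 h2]] at h
  rw [← h]
  congr 2
  funext i
  rcases i with k | k
  · exact (fSeq_congr fun l h1 h2 => ha l h1 (h2.trans k.isLt)).symm
  · exact (fSeq_congr fun l h1 h2 => hb l h1 (h2.trans k.isLt)).symm

theorem compGen_eq_fSeq (N i j : ℕ) :
    MvPolynomial.map (Int.castRingHom ℚ) (compGen N i j) =
      fSeq (fun l => fSeq (fun r => pT ℚ N (l * r)) i) j := by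
  rw [compGen, map_multiset_esymm]
  refine fSeq_eq (E := fun n => Multiset.esymm _ n) (by simp [Multiset.esymm]) ?_ j
  refine (newtonRel_esymm _).congr (fun _ => rfl) (fun l _ => ?_)
  have h : fSeq (fun r => pT ℚ N (l * r)) i =
      ((univ : Finset (Fin N)).val.map fun a => (X a : MvPolynomial (Fin N) ℚ) ^ l).esymm i := by
    refine (fSeq_eq (E := fun n => Multiset.esymm _ n) (by simp [Multiset.esymm]) ?_ i).symm
    refine (newtonRel_esymm _).congr (fun _ => rfl) (fun r _ => ?_)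
    simp only [Multiset.map_map, pT, Function.comp_def, ← pow_mul]
  rw [h, Finset.esymm_map_val]
  simp only [Multiset.map_map, Function.comp_def, map_prod, map_X, Finset.prod_pow]
  rfl

/-- The identity defining `Q_{i,j}`, in power sums. -/
theorem compPoly_fSeq {i j : ℕ} {Q : MvPolynomial (Fin (i * j)) ℤ} (hQ : IsCompPoly i j Q) (p : ℕ → R) :
    aeval (fun k : Fin (i * j) => fSeq p ((k : ℕ) + 1)) Q =
      fSeq (fun l => fSeq (fun r => p (l * r)) i) j := by
  let a : ℕ → MvPolynomial (Fin (i * j)) ℚ := seqVar 0 id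
  have hle : ∀ {l r : ℕ}, l ≤ j → r ≤ i → l * r ≤ i * j := fun hl hr => by
    rw [mul_comm i j]; exact Nat.mul_le_mul hl hr
  have key : aeval (fun k : Fin (i * j) => fSeq a ((k : ℕ) + 1)) Q =
      fSeq (fun l => fSeq (fun r => a (l * r)) i) j := by
    refine aeval_pT_injective (i * j) ?_
    let φ := (aeval (R := ℚ) (fun k : Fin (i * j) => pT ℚ (i * j) ((k : ℕ) + 1)) :
      MvPolynomial (Fin (i * j)) ℚ →ₐ[ℚ] MvPolynomial (Fin (i * j)) ℚ).toRingHom
    have ha : ∀ l, 1 ≤ l → l ≤ i * j → φ (a l) = pT ℚ (i * j) l := fun l h1 h2 => by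
      simp [φ, a, seqVar, h1, h2, show l - 1 + 1 = l by omega]
    show φ _ = φ _
    rw [map_aeval_int]
    simp only [map_fSeq]
    have h := congrArg (MvPolynomial.map (Int.castRingHom ℚ)) hQ.1
    rw [map_aeval_int, compGen_eq_fSeq] at h
    simp only [map_esymm, esymm_eq_fSeq] at h
    rw [fSeq_congr (q := fun l => fSeq (fun r => pT ℚ (i * j) (l * r)) i) fun l l1 l2 => by
      simp only [Function.comp_apply, map_fSeq]
      exact fSeq_congr fun r r1 r2 => ha _ (Nat.mul_pos l1 r1) (hle l2 r2), ← h]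
    congr 2
    funext k
    exact fSeq_congr fun l h1 h2 => ha l h1 (h2.trans k.isLt)
  let ev : MvPolynomial (Fin (i * j)) ℚ →+* R :=
    (aeval fun k : Fin (i * j) => p ((k : ℕ) + 1)).toRingHom
  have ha : ∀ l, 1 ≤ l → l ≤ i * j → ev (a l) = p l := fun l h1 h2 => by
    simp [ev, a, seqVar, h1, h2, show l - 1 + 1 = l by omega]
  have h := congrArg ev key
  rw [map_aeval_int] at h
  simp only [map_fSeq] at h
  rw [fSeq_congr (q := fun l => fSeq (fun r => p (l * r)) i) fun l l1 l2 => by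
    simp only [Function.comp_apply, map_fSeq]
    exact fSeq_congr fun r r1 r2 => ha _ (Nat.mul_pos l1 r1) (hle l2 r2)] at h
  rw [← h]
  congr 2
  funext k
  exact (fSeq_congr fun l h1 h2 => ha l h1 (h2.trans k.isLt)).symm

end Rational

section OfAdams

variable {K : Type u} [CommRing K] [LambdaOps K]

theorem lam_eq_fSeq [Algebra ℚ K] (n : ℕ) (x : K) :
    LambdaOps.lam n x = fSeq (fun k => adamsOp k x) n :=
  fSeq_eq (LambdaOps.lam_zero x) (newtonRel_lam x) n

theorem adamsOp_zero_apply (k : ℕ) (hk : 1 ≤ k) : adamsOp k (0 : K) = 0 := by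
  have := adamsOp_add k hk (0 : K) 0
  simpa using this

theorem lam_one_of_newtonRel [Algebra ℚ R] {E : ℕ → R} (h0 : E 0 = 1) (h : NewtonRel E fun _ => 1)
    (n : ℕ) (hn : 2 ≤ n) : E n = 0 := by
  rw [fSeq_eq h0 h n]
  refine (fSeq_eq (E := fun n => ({1} : Multiset R).esymm n) (by simp [Multiset.esymm]) ?_ n).symm.trans ?_
  · exact (newtonRel_esymm _).congr (fun _ => rfl) (fun k _ => by simp)
  · simp [Multiset.esymm, Multiset.powersetCard_eq_empty _ (show Multiset.card ({1} : Multiset R) < n by simp; omega)]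

/-- Specialness can be checked in power sums after any injective map to a `ℚ`-algebra. -/
theorem isSpecial_of_adams {L : Type v} [CommRing L] [Algebra ℚ L] (ι : K →+* L)
    (hι : Function.Injective ι) (h1 : ∀ k, 1 ≤ k → ι (adamsOp k (1 : K)) = 1)
    (hmul : ∀ k, 1 ≤ k → ∀ x y : K, ι (adamsOp k (x * y)) = ι (adamsOp k x) * ι (adamsOp k y))
    (hcomp : ∀ i l, 1 ≤ l → ∀ x : K,
      ι (adamsOp l (LambdaOps.lam i x)) = fSeq (fun r => ι (adamsOp (l * r) x)) i) :
    IsSpecial K := by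
  have hl : ∀ (n : ℕ) (x : K), ι (LambdaOps.lam n x) = fSeq (fun k => ι (adamsOp k x)) n := fun n x =>
    fSeq_eq (E := fun n => ι (LambdaOps.lam n x)) (by simp [LambdaOps.lam_zero]) ((newtonRel_lam x).map ι) n
  refine ⟨fun n hn => ?_, fun n P hP x y => ?_, fun i j Q hQ x => ?_⟩
  · refine hι ?_
    rw [map_zero]
    exact lam_one_of_newtonRel (E := fun n => ι (LambdaOps.lam n (1 : K))) (by simp [LambdaOps.lam_zero])
      (((newtonRel_lam (1 : K)).map ι).congr (fun _ => rfl) fun k hk => h1 k hk) n hn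
  · refine hι ?_
    rw [map_aeval_sum]
    simp only [hl]
    rw [mulPoly_fSeq hP]
    exact fSeq_congr fun k hk _ => hmul k hk x y
  · refine hι ?_
    rw [map_aeval_int]
    simp only [hl]
    rw [compPoly_fSeq hQ]
    exact fSeq_congr fun l hl' _ => hcomp i l hl' x

end OfAdams

section Integral

variable {K : Type u} [CommRing K] [LambdaOps K]

/-- The universal sequence `1, X_1, X_2, …, X_N`. -/
noncomputable def eX (R : Type u) [CommRing R] {σ : Type v} {N : ℕ} (j : Fin N → σ) : ℕ → MvPolynomial σ R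
  | 0 => 1
  | m + 1 => if h : m < N then X (j ⟨m, h⟩) else 0

theorem aeval_eX {σ : Type v} {N : ℕ} (j : Fin N → σ) (v : σ → K) (x : K)
    (hv : ∀ k, v (j k) = LambdaOps.lam ((k : ℕ) + 1) x) :
    ∀ m ≤ N, aeval v (eX ℤ j m) = LambdaOps.lam m x
  | 0, _ => by simp [eX, LambdaOps.lam_zero]
  | m + 1, h => by
    have hm : m < N := h
    simp [eX, hm, hv]

theorem map_eX {σ : Type v} {N : ℕ} (j : Fin N → σ) (m : ℕ) :
    MvPolynomial.map (Int.castRingHom ℚ) (eX ℤ j m) = eX ℚ j m := by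
  cases m with
  | zero => simp [eX]
  | succ m => by_cases h : m < N <;> simp [eX, h]

theorem eX_eq_fSeq {σ : Type v} {N : ℕ} (j : Fin N → σ) (m : ℕ) :
    eX ℚ j m = fSeq (gSeq (eX ℚ j)) m :=
  fSeq_eq (by simp [eX]) (newtonRel_gSeq (by simp [eX])) m

theorem adamsOp_mul_of_special (hK : IsSpecial K)
    (hP : ∀ n : ℕ, ∃ P : MvPolynomial (Fin n ⊕ Fin n) ℤ, IsMulPoly n P)
    (k : ℕ) (hk : 1 ≤ k) (x y : K) : adamsOp k (x * y) = adamsOp k x * adamsOp k y := by
  choose P hP using hP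
  let eA : ℕ → MvPolynomial (Fin k ⊕ Fin k) ℤ := eX ℤ Sum.inl
  let eB : ℕ → MvPolynomial (Fin k ⊕ Fin k) ℤ := eX ℤ Sum.inr
  let E : ℕ → MvPolynomial (Fin k ⊕ Fin k) ℤ := fun m =>
    if m = 0 then 1 else aeval (Sum.elim (fun l : Fin m => eA ((l : ℕ) + 1)) (fun l : Fin m => eB ((l : ℕ) + 1))) (P m)
  have key : gSeq E k = gSeq eA k * gSeq eB k := by
    refine MvPolynomial.map_injective (Int.castRingHom ℚ) (RingHom.injective_int (Int.castRingHom ℚ)) ?_
    rw [map_mul, map_gSeq _ (by simp [E]) k hk, map_gSeq _ (by simp [eA, eX]) k hk,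
      map_gSeq _ (by simp [eB, eX]) k hk]
    have hA : MvPolynomial.map (Int.castRingHom ℚ) ∘ eA = eX ℚ Sum.inl := funext (map_eX _)
    have hB : MvPolynomial.map (Int.castRingHom ℚ) ∘ eB = eX ℚ Sum.inr := funext (map_eX _)
    have hE : MvPolynomial.map (Int.castRingHom ℚ) ∘ E =
        fSeq (gSeq (eX ℚ Sum.inl) * gSeq (eX ℚ Sum.inr) : ℕ → MvPolynomial (Fin k ⊕ Fin k) ℚ) := by
      funext m
      rcases eq_or_ne m 0 with rfl | hm
      · simp [E, fSeq]
      · simp only [Function.comp_apply, E, if_neg hm]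
        rw [map_aeval_sum, ← mulPoly_fSeq (hP m)]
        simp only [eA, eB, map_eX, ← eX_eq_fSeq]
        convert rfl <;> exact Subsingleton.elim _ _
    rw [hA, hB, hE, gSeq_fSeq _ k hk]
    rfl
  let v : Fin k ⊕ Fin k → K :=
    Sum.elim (fun l => LambdaOps.lam ((l : ℕ) + 1) x) (fun l => LambdaOps.lam ((l : ℕ) + 1) y)
  have hvA : ∀ m ≤ k, aeval v (eA m) = LambdaOps.lam m x := aeval_eX _ _ _ fun _ => rfl
  have hvB : ∀ m ≤ k, aeval v (eB m) = LambdaOps.lam m y := aeval_eX _ _ _ fun _ => rfl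
  have h := congrArg (aeval v).toRingHom key
  rw [map_mul, map_gSeq _ (by simp [E]) k hk, map_gSeq _ (by simp [eA, eX]) k hk,
    map_gSeq _ (by simp [eB, eX]) k hk] at h
  rw [adamsOp_eq_gSeq _ k hk, adamsOp_eq_gSeq _ k hk, adamsOp_eq_gSeq _ k hk]
  refine ((gSeq_congr k fun m hm => ?_).symm.trans h).trans ?_
  · rcases eq_or_ne m 0 with rfl | hm0
    · simp [E, LambdaOps.lam_zero]
    · simp only [Function.comp_apply, E, if_neg hm0]
      rw [map_aeval_sum, hK.lam_mul m (P m) (hP m)]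
      congr 2
      funext l
      rcases l with l | l
      · exact hvA _ (by omega)
      · exact hvB _ (by omega)
  · exact congr_arg₂ _ (gSeq_congr k hvA) (gSeq_congr k hvB)

theorem adamsOp_adamsOp_of_special (hK : IsSpecial K)
    (hP : ∀ n : ℕ, ∃ P : MvPolynomial (Fin n ⊕ Fin n) ℤ, IsMulPoly n P)
    (hQ : ∀ i j : ℕ, ∃ Q : MvPolynomial (Fin (i * j)) ℤ, IsCompPoly i j Q)
    (k k' : ℕ) (hk : 1 ≤ k) (hk' : 1 ≤ k') (x : K) :
    adamsOp k (adamsOp k' x) = adamsOp (k * k') x := by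
  choose Q hQ using hQ
  let Ψ : K →+* K :=
    { toFun := adamsOp k
      map_one' := adamsOp_one' hK.lam_one_eq_zero k hk
      map_mul' := adamsOp_mul_of_special hK hP k hk
      map_zero' := adamsOp_zero_apply k hk
      map_add' := adamsOp_add k hk }
  let e : ℕ → MvPolynomial (Fin (k * k')) ℤ := eX ℤ id
  let F : ℕ → ℕ → MvPolynomial (Fin (k * k')) ℤ := fun i j =>
    if j = 0 then 1 else aeval (fun l : Fin (i * j) => e ((l : ℕ) + 1)) (Q i j)
  let G : ℕ → MvPolynomial (Fin (k * k')) ℤ := fun i => if i = 0 then 1 else gSeq (F i) k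
  have key : gSeq G k' = gSeq e (k * k') := by
    refine MvPolynomial.map_injective (Int.castRingHom ℚ) (RingHom.injective_int (Int.castRingHom ℚ)) ?_
    rw [map_gSeq _ (by simp [G]) k' hk', map_gSeq _ (by simp [e, eX]) (k * k') (Nat.mul_pos hk hk')]
    have he : MvPolynomial.map (Int.castRingHom ℚ) ∘ e = eX ℚ id := funext (map_eX _)
    rw [he]
    have hG : MvPolynomial.map (Int.castRingHom ℚ) ∘ G =
        fSeq (fun r => gSeq (eX ℚ id) (k * r) : ℕ → MvPolynomial (Fin (k * k')) ℚ) := by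
      funext i
      rcases eq_or_ne i 0 with rfl | hi
      · simp [G, fSeq]
      · simp only [Function.comp_apply, G, if_neg hi]
        rw [map_gSeq _ (by simp [F]) k hk]
        have hF : MvPolynomial.map (Int.castRingHom ℚ) ∘ F i =
            fSeq (fun l => fSeq (fun r => gSeq (eX ℚ id) (l * r)) i :
              ℕ → MvPolynomial (Fin (k * k')) ℚ) := by
          funext j
          rcases eq_or_ne j 0 with rfl | hj
          · simp [F, fSeq]
          · simp only [Function.comp_apply, F, if_neg hj]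
            rw [map_aeval_int, ← compPoly_fSeq (hQ i j)]
            simp only [e, map_eX, ← eX_eq_fSeq]
            convert rfl <;> exact Subsingleton.elim _ _
        rw [hF, gSeq_fSeq _ k hk]
    rw [hG, gSeq_fSeq _ k' hk']
  let v : Fin (k * k') → K := fun l => LambdaOps.lam ((l : ℕ) + 1) x
  have hv : ∀ m ≤ k * k', aeval v (e m) = LambdaOps.lam m x := aeval_eX _ _ _ fun _ => rfl
  have h := congrArg (aeval v).toRingHom key
  rw [map_gSeq _ (by simp [G]) k' hk', map_gSeq _ (by simp [e, eX]) (k * k') (Nat.mul_pos hk hk')] at h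
  rw [adamsOp_eq_gSeq x k' hk', adamsOp_eq_gSeq x (k * k') (Nat.mul_pos hk hk')]
  show Ψ _ = _
  rw [map_gSeq Ψ (LambdaOps.lam_zero x) k' hk', ← gSeq_congr (k * k') hv]
  refine (gSeq_congr k' fun i hi => ?_).trans h
  rcases eq_or_ne i 0 with rfl | hi0
  · simp [G, LambdaOps.lam_zero]
  simp only [Function.comp_apply, G, if_neg hi0]
  rw [map_gSeq _ (by simp [F]) k hk]
  show adamsOp k _ = _
  rw [adamsOp_eq_gSeq _ k hk]
  refine gSeq_congr k fun j hj => ?_
  rcases eq_or_ne j 0 with rfl | hj0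
  · simp [F, LambdaOps.lam_zero]
  simp only [Function.comp_apply, F, if_neg hj0]
  rw [map_aeval_int, hK.lam_lam i j (Q i j) (hQ i j)]
  congr 2
  funext l
  exact (hv _ (le_trans (Nat.succ_le_of_lt l.isLt) (by rw [mul_comm k k']; exact Nat.mul_le_mul hi hj))).symm

end Integral

section Binomial

variable {K : Type u} [CommRing K] [BinomialRing K]

theorem natSucc_mul_choose (x : K) (n : ℕ) :
    ((n : K) + 1) * Ring.choose x (n + 1) = (x - n) * Ring.choose x n := by
  have h1 := Ring.descPochhammer_eq_factorial_smul_choose x (n + 1)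
  have h2 := Ring.descPochhammer_eq_factorial_smul_choose x n
  rw [descPochhammer_succ_right, Polynomial.smeval_mul, h2, Nat.factorial_succ, mul_smul,
    smul_mul_assoc, smul_comm] at h1
  simp only [Polynomial.smeval_sub, Polynomial.smeval_X, pow_one, Polynomial.smeval_natCast, pow_zero,
    nsmul_eq_mul, mul_one, Nat.cast_add, Nat.cast_one] at h1
  refine BinomialRing.toIsAddTorsionFree.nsmul_right_injective (Nat.factorial_ne_zero n) ?_
  simp only [nsmul_eq_mul]
  linear_combination -h1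

theorem newtonRel_choose (x : K) : NewtonRel (fun n => Ring.choose x n) (fun _ => x) := by
  intro n
  induction n with
  | zero => simp
  | succ n ih =>
    have := natSucc_mul_choose x (n + 1)
    rw [sum_range_succ']
    simp only [pow_zero, one_mul, Nat.sub_zero, Nat.succ_sub_succ_eq_sub, pow_succ, Nat.cast_succ] at this ⊢
    rw [this, sum_congr rfl (fun i _ => (by ring :
      (-1 : K) ^ i * -1 * x * Ring.choose x (n - i) = -((-1) ^ i * x * Ring.choose x (n - i)))),
      sum_neg_distrib, ← ih]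
    ring

theorem adamsOp_binomial [LambdaOps K] (hb : IsBinomial K) (k : ℕ) (hk : 1 ≤ k) (x : K) :
    adamsOp k x = x :=
  adamsOp_eq_of_newtonRel (p := fun _ => x)
    ((newtonRel_choose x).congr (fun n => (hb n x).symm) fun _ _ => rfl) k hk

/-- Positive integers, as a submonoid of `K`. -/
def natPos (K : Type u) [CommRing K] : Submonoid K where
  carrier := {a | ∃ n : ℕ, n ≠ 0 ∧ (n : K) = a}
  one_mem' := ⟨1, one_ne_zero, Nat.cast_one⟩
  mul_mem' := fun ⟨a, ha, ea⟩ ⟨b, hb, eb⟩ => ⟨a * b, mul_ne_zero ha hb, by simp [ea, eb]⟩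

theorem natPos_le : natPos K ≤ nonZeroDivisors K := by
  rintro _ ⟨n, hn, rfl⟩
  refine mem_nonZeroDivisors_iff.mpr ⟨fun a ha => ?_, fun a ha => ?_⟩
  · exact BinomialRing.toIsAddTorsionFree.nsmul_right_injective hn (by simpa [nsmul_eq_mul] using ha)
  · exact BinomialRing.toIsAddTorsionFree.nsmul_right_injective hn (by simpa [nsmul_eq_mul, mul_comm] using ha)

/-- `K ⊗ ℚ` is a `ℚ`-algebra. -/
noncomputable def ratHom (K : Type u) [CommRing K] : ℚ →+* Localization (natPos K) :=
  IsLocalization.lift (M := nonZeroDivisors ℤ) (g := Int.castRingHom (Localization (natPos K))) fun z => by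
    obtain ⟨z, hz⟩ := z
    have hn : z.natAbs ≠ 0 := Int.natAbs_ne_zero.mpr (nonZeroDivisors.ne_zero hz)
    have hu : IsUnit ((z.natAbs : ℕ) : Localization (natPos K)) := by
      rw [← map_natCast (algebraMap K (Localization (natPos K)))]
      exact IsLocalization.map_units _ (⟨_, z.natAbs, hn, rfl⟩ : natPos K)
    show IsUnit ((z : ℤ) : Localization (natPos K))
    rcases Int.natAbs_eq z with e | e
    · rw [e, Int.cast_natCast]; exact hu
    · rw [e, Int.cast_neg, Int.cast_natCast]; exact hu.neg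

theorem isSpecial_of_binomial [LambdaOps K] (hb : IsBinomial K) : IsSpecial K := by
  let L := Localization (natPos K)
  letI : Algebra ℚ L := (ratHom K).toAlgebra
  refine isSpecial_of_adams (algebraMap K L) (IsLocalization.injective L natPos_le)
    (fun k hk => by rw [adamsOp_binomial hb k hk, map_one])
    (fun k hk x y => by simp only [adamsOp_binomial hb k hk, map_mul])
    (fun i l hl x => ?_)
  rw [adamsOp_binomial hb l hl]
  refine (fSeq_eq (E := fun n => algebraMap K L (LambdaOps.lam n x)) (by simp [LambdaOps.lam_zero])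
    ((newtonRel_lam x).map _) i).trans (fSeq_congr fun r r1 _ => ?_)
  simp only [Function.comp_apply, adamsOp_binomial hb r r1,
    adamsOp_binomial hb (l * r) (Nat.mul_pos hl r1)]

end Binomial

end LambdaSpLib
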