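import Groth.Agent.LambdaSpL.Newton
import Mathlib.RingTheory.MvPolynomial.Symmetric.FundamentalTheorem
import Mathlib.RingTheory.MvPolynomial.WeightedHomogeneous
import Mathlib.Algebra.MvPolynomial.Equiv
import Mathlib.Logic.Equiv.Fintype

/-! Test maps for universal symmetric identities. -/

namespace LambdaSpLib

open MvPolynomial Finset LambdaRing

universe u v

variable {R : Type u} [CommRing R] {S : Type v} [CommRing S]

theorem map_multiset_esymm (f : R →+* S) (s : Multiset R) (k : ℕ) :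
    f (s.esymm k) = (s.map f).esymm k := by
  simp [Multiset.esymm, map_multiset_sum, Multiset.powersetCard_map, Multiset.map_map, map_multiset_prod,
    Function.comp_def]

/-- Zero summands do not change elementary symmetric functions. -/
theorem esymm_map_of_support {α β : Type*} [DecidableEq α] (s : Finset α) (t : Finset β) (e : β ↪ α)
    (hts : t.map e ⊆ s) (f : α → R) (hf : ∀ a ∈ s, a ∉ t.map e → f a = 0) (k : ℕ) :
    (s.val.map f).esymm k = (t.val.map (f ∘ e)).esymm k := by
  rw [Finset.esymm_map_val, Finset.esymm_map_val]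
  rw [← Finset.sum_subset (Finset.powersetCard_mono (n := k) hts)]
  · rw [Finset.powersetCard_map, Finset.sum_map]
    exact sum_congr rfl fun u _ => by simp
  · intro u hu hu'
    rw [Finset.mem_powersetCard] at hu hu'
    obtain ⟨a, hau, hat⟩ := Finset.not_subset.mp (fun h => hu' ⟨h, hu.2⟩)
    exact Finset.prod_eq_zero hau (hf a (hu.1 hau) hat)

/-- The `k`-th elementary symmetric polynomial, as the `k`-th variable. -/
noncomputable def eOne (R : Type u) [CommRing R] (N n : ℕ) :
    MvPolynomial (Fin n) R →ₐ[R] MvPolynomial (Fin N) R :=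
  aeval fun k : Fin n => esymm (Fin N) R ((k : ℕ) + 1)

/-- Two families of elementary symmetric polynomials. -/
noncomputable def eTwo (R : Type u) [CommRing R] (N n : ℕ) :
    MvPolynomial (Fin n ⊕ Fin n) R →ₐ[R] MvPolynomial (Fin N ⊕ Fin N) R :=
  aeval (Sum.elim (fun k : Fin n => rename Sum.inl (esymm (Fin N) R ((k : ℕ) + 1)))
    (fun k : Fin n => rename Sum.inr (esymm (Fin N) R ((k : ℕ) + 1))))

theorem eOne_injective {N n : ℕ} (h : n ≤ N) : Function.Injective (eOne R N n) := by
  have : (eOne R N n : MvPolynomial (Fin n) R → MvPolynomial (Fin N) R) =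
      Subtype.val ∘ esymmAlgHom (Fin N) R n := funext fun p => (esymmAlgHom_apply p).symm
  rw [this]
  exact Subtype.val_injective.comp (esymmAlgHom_injective R (by simpa using h))

theorem sumAlgEquiv_eTwo (N n : ℕ) (p : MvPolynomial (Fin n ⊕ Fin n) R) :
    sumAlgEquiv R (Fin N) (Fin N) (eTwo R N n p) =
      eOne (MvPolynomial (Fin N) R) N n
        (MvPolynomial.map (eOne R N n).toRingHom (sumAlgEquiv R (Fin n) (Fin n) p)) := by
  induction p using MvPolynomial.induction_on with
  | C r => simp [eTwo, eOne]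
  | add p q hp hq => simp only [map_add, hp, hq]
  | mul_X p i hp =>
    rw [map_mul, map_mul, map_mul, map_mul, map_mul, hp]
    congr 1
    rcases i with k | k
    · simp only [eTwo, aeval_X, Sum.elim_inl, sumAlgEquiv_X_inl]
      simp [eOne, esymm, map_sum, map_prod]
    · simp only [eTwo, aeval_X, Sum.elim_inr, sumAlgEquiv_X_inr]
      simp [eOne, esymm, map_sum, map_prod]

theorem eTwo_injective {N n : ℕ} (h : n ≤ N) : Function.Injective (eTwo R N n) := fun p q hpq => by
  have := congrArg (sumAlgEquiv R (Fin N) (Fin N)) hpq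
  rw [sumAlgEquiv_eTwo, sumAlgEquiv_eTwo] at this
  exact (sumAlgEquiv R (Fin n) (Fin n)).injective
    (MvPolynomial.map_injective _ (eOne_injective h) (eOne_injective h this))

/-- Power sums of `N` variables. -/
noncomputable def pT (R : Type u) [CommRing R] (N k : ℕ) : MvPolynomial (Fin N) R :=
  ((Finset.univ : Finset (Fin N)).val.map fun a => (X a : MvPolynomial (Fin N) R) ^ k).sum

theorem esymm_eq_fSeq [Algebra ℚ R] (N n : ℕ) :
    esymm (Fin N) R n = fSeq (pT R N) n := by
  rw [esymm_eq_multiset_esymm]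
  refine fSeq_eq (E := fun n => Multiset.esymm (univ.val.map X) n) (by simp [Multiset.esymm]) ?_ n
  refine (newtonRel_esymm _).congr (fun _ => rfl) (fun k _ => ?_)
  simp only [pT, Multiset.map_map]; rfl

theorem pT_eq_gSeq (N k : ℕ) (hk : 1 ≤ k) :
    pT R N k = gSeq (fun n => esymm (Fin N) R n) k := by
  refine NewtonRel.p_unique (E := fun n => esymm (Fin N) R n) (p := pT R N)
    (by simp [esymm_zero]) ?_ (newtonRel_gSeq (esymm_zero _ _)) k hk
  refine (newtonRel_esymm ((univ : Finset (Fin N)).val.map X)).congr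
    (fun n => (congrFun (esymm_eq_multiset_esymm (Fin N) R) n).symm) (fun k _ => ?_)
  simp only [pT, Multiset.map_map]; rfl

/-- A family of variables indexed by `1, …, n`, extended by zero. -/
noncomputable def seqVar {σ : Type*} {n : ℕ} (c : R) (j : Fin n → σ) (k : ℕ) : MvPolynomial σ R :=
  if h : 1 ≤ k ∧ k ≤ n then X (j ⟨k - 1, by omega⟩) else C c

theorem mem_range_of_fSeq {A : Type*} [CommRing A] [Algebra ℚ A] (B : Subalgebra ℚ A) (p : ℕ → A)
    (N : ℕ) (h : ∀ k, 1 ≤ k → k ≤ N → fSeq p k ∈ B) : ∀ k, 1 ≤ k → k ≤ N → p k ∈ B := by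
  intro k
  induction k using Nat.strong_induction_on with
  | h k ih =>
    intro hk hkN
    obtain ⟨m, rfl⟩ := Nat.exists_eq_succ_of_ne_zero (by omega : k ≠ 0)
    have h0 : ∀ j, j ≤ N → fSeq p j ∈ B := fun j hj => by
      rcases Nat.eq_zero_or_pos j with rfl | hj'
      · rw [fSeq]; exact one_mem B
      · exact h j hj' hj
    have e := newtonRel_fSeq p m
    rw [sum_range_succ, Nat.sub_self, fSeq.eq_1, mul_one] at e
    have hmem : (-1 : A) ^ m * p (m + 1) ∈ B := by
      have := eq_sub_of_add_eq' e.symm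
      rw [this]
      refine sub_mem (mul_mem (add_mem (natCast_mem B m) (one_mem B)) (h0 _ hkN)) (sum_mem fun i hi => ?_)
      simp only [mem_range] at hi
      exact mul_mem (mul_mem (pow_mem (neg_mem (one_mem B)) i) (ih (i + 1) (by omega) (by omega) (by omega)))
        (h0 _ (by omega))
    simpa [← mul_assoc, ← pow_add, Even.neg_one_pow ⟨m, rfl⟩] using
      mul_mem (pow_mem (neg_mem (one_mem B)) m) hmem

/-- Power sums of two families are algebraically independent. -/
theorem aeval_pT_two_injective (N : ℕ) :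
    Function.Injective (aeval (R := ℚ) (Sum.elim (fun k : Fin N => rename Sum.inl (pT ℚ N ((k : ℕ) + 1)))
      (fun k : Fin N => rename Sum.inr (pT ℚ N ((k : ℕ) + 1)))) :
      MvPolynomial (Fin N ⊕ Fin N) ℚ → MvPolynomial (Fin N ⊕ Fin N) ℚ) := by
  set φ := (aeval (R := ℚ) (Sum.elim (fun k : Fin N => rename Sum.inl (pT ℚ N ((k : ℕ) + 1)))
      (fun k : Fin N => rename Sum.inr (pT ℚ N ((k : ℕ) + 1)))) :
      MvPolynomial (Fin N ⊕ Fin N) ℚ →ₐ[ℚ] MvPolynomial (Fin N ⊕ Fin N) ℚ)
  let pa : ℕ → MvPolynomial (Fin N ⊕ Fin N) ℚ := seqVar 0 Sum.inl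
  let pb : ℕ → MvPolynomial (Fin N ⊕ Fin N) ℚ := seqVar 0 Sum.inr
  let α : MvPolynomial (Fin N ⊕ Fin N) ℚ →ₐ[ℚ] MvPolynomial (Fin N ⊕ Fin N) ℚ :=
    aeval (Sum.elim (fun k : Fin N => fSeq pa ((k : ℕ) + 1)) (fun k : Fin N => fSeq pb ((k : ℕ) + 1)))
  have hphi : φ.comp α = eTwo ℚ N N := by
    refine algHom_ext fun i => ?_
    rcases i with k | k
    · simp only [AlgHom.comp_apply, α, aeval_X, Sum.elim_inl, eTwo]
      rw [← AlgHom.coe_toRingHom, map_fSeq, ← AlgHom.coe_toRingHom, esymm_eq_fSeq, map_fSeq]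
      refine fSeq_congr fun l h1 h2 => ?_
      have hl : 1 ≤ l ∧ l ≤ N := ⟨h1, h2.trans k.isLt⟩
      simp [pa, seqVar, hl, φ, show l - 1 + 1 = l by omega]
    · simp only [AlgHom.comp_apply, α, aeval_X, Sum.elim_inr, eTwo]
      rw [← AlgHom.coe_toRingHom, map_fSeq, ← AlgHom.coe_toRingHom, esymm_eq_fSeq, map_fSeq]
      refine fSeq_congr fun l h1 h2 => ?_
      have hl : 1 ≤ l ∧ l ≤ N := ⟨h1, h2.trans k.isLt⟩
      simp [pb, seqVar, hl, φ, show l - 1 + 1 = l by omega]
  have hsur : α.range = ⊤ := by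
    rw [eq_top_iff, ← adjoin_range_X, Algebra.adjoin_le_iff]
    rintro _ ⟨i, rfl⟩
    have hmem : ∀ (p : ℕ → _) (j : Fin N → Fin N ⊕ Fin N),
        (∀ k : Fin N, α (X (j k)) = fSeq p ((k : ℕ) + 1)) → ∀ k, 1 ≤ k → k ≤ N → p k ∈ α.range := by
      intro p j hj
      refine mem_range_of_fSeq _ p N fun k h1 h2 => ⟨X (j ⟨k - 1, by omega⟩), ?_⟩
      exact (hj _).trans (by simp [show k - 1 + 1 = k by omega])
    rcases i with k | k
    · have := hmem pa Sum.inl (fun k => by simp [α]) ((k : ℕ) + 1) (by omega) k.isLt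
      simpa [pa, seqVar, Nat.succ_le_iff, k.isLt] using this
    · have := hmem pb Sum.inr (fun k => by simp [α]) ((k : ℕ) + 1) (by omega) k.isLt
      simpa [pb, seqVar, Nat.succ_le_iff, k.isLt] using this
  intro p q hpq
  obtain ⟨p', rfl⟩ : p ∈ α.range := hsur ▸ Algebra.mem_top
  obtain ⟨q', rfl⟩ : q ∈ α.range := hsur ▸ Algebra.mem_top
  congr 1
  refine eTwo_injective le_rfl ?_
  rw [← hphi]
  exact hpq

/-- Power sums of one family are algebraically independent. -/
theorem aeval_pT_injective (N : ℕ) :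
    Function.Injective (aeval (R := ℚ) (fun k : Fin N => pT ℚ N ((k : ℕ) + 1)) :
      MvPolynomial (Fin N) ℚ → MvPolynomial (Fin N) ℚ) := by
  intro p q h
  refine rename_injective Sum.inl Sum.inl_injective (aeval_pT_two_injective N ?_)
  rw [aeval_rename, aeval_rename]
  have : ∀ r, aeval (R := ℚ) (fun k : Fin N => rename (Sum.inl : Fin N → Fin N ⊕ Fin N) (pT ℚ N ((k : ℕ) + 1))) r
      = rename Sum.inl (aeval (R := ℚ) (fun k : Fin N => pT ℚ N ((k : ℕ) + 1)) r) := fun r => by
    rw [← comp_aeval_apply]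
  simp only [Sum.elim_comp_inl]
  rw [this, this, h]

/-- A symmetric polynomial whose monomials involve at most `n` variables of each family is determined
by its restriction to `n` variables of each family. -/
theorem eq_zero_of_killCompl {ι : Type*} [Fintype ι] [DecidableEq ι] {N n : ℕ} (hn : n ≤ N)
    (D : MvPolynomial (ι × Fin N) ℤ)
    (hsym : ∀ σ : ι → Equiv.Perm (Fin N), rename (fun x => (x.1, σ x.1 x.2)) D = D)
    (hdeg : ∀ d ∈ D.support, ∀ i, (univ.filter fun a => d (i, a) ≠ 0).card ≤ n)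
    (hkill : killCompl (f := fun x : ι × Fin n => (x.1, Fin.castLE hn x.2))
      (fun x y h => by simpa [Prod.ext_iff] using h) D = 0) : D = 0 := by
  classical
  ext d
  rw [coeff_zero]
  by_contra hd
  have hsupp := hdeg d (mem_support_iff.mpr hd)
  have hex : ∀ i, ∃ σ : Equiv.Perm (Fin N), ∀ a, d (i, a) ≠ 0 → ((σ a : Fin N) : ℕ) < n := by
    intro i
    set T := univ.filter fun a => d (i, a) ≠ 0
    let f : Fin T.card ↪ Fin N := (Fin.castLEEmb (hsupp i)).trans (Fin.castLEEmb hn)
    let e : {a // a ∈ T} ≃ {b // b ∈ Set.range f} :=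
      T.equivFin.trans (Equiv.ofInjective f f.injective)
    refine ⟨e.extendSubtype, fun a ha => ?_⟩
    have haT : a ∈ T := by simp [T, ha]
    obtain ⟨b, hb⟩ := e.extendSubtype_mem a haT
    rw [← hb]
    exact lt_of_lt_of_le b.isLt (hsupp i)
  choose σ hσ using hex
  let g : ι × Fin N → ι × Fin N := fun x => (x.1, σ x.1 x.2)
  have hg : Function.Injective g := by
    rintro ⟨i, a⟩ ⟨j, b⟩ h
    simp only [g, Prod.mk.injEq] at h
    obtain ⟨rfl, h⟩ := h
    rw [(σ i).injective h]
  have hc : coeff (Finsupp.mapDomain g d) D = coeff d D := by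
    conv_lhs => rw [← hsym σ]
    exact coeff_rename_mapDomain g hg D d
  let f : ι × Fin n → ι × Fin N := fun x => (x.1, Fin.castLE hn x.2)
  have hf : Function.Injective f := fun x y h => by simpa [f, Prod.ext_iff] using h
  have hrange : ↑(Finsupp.mapDomain g d).support ⊆ Set.range f := by
    intro x hx
    obtain ⟨⟨i, a⟩, ha, rfl⟩ := Finset.mem_image.mp (Finsupp.mapDomain_support hx)
    exact ⟨(i, ⟨σ i a, hσ i a (Finsupp.mem_support_iff.mp ha)⟩), rfl⟩
  have := congrArg (coeff ((Finsupp.mapDomain g d).comapDomain f hf.injOn)) hkill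
  erw [coeff_killCompl, coeff_zero] at this
  rw [(Finsupp.mapDomain g d).mapDomain_comapDomain f hf hrange, hc] at this
  exact hd this

end LambdaSpLib
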