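import Groth.Agent.LambdaSpL.PosFil
import Mathlib.RingTheory.TensorProduct.Basic
import Mathlib.LinearAlgebra.Eigenspace.Basic
import Mathlib.Algebra.Polynomial.Derivative
import Mathlib.RingTheory.Polynomial.Basic

/-! Eigenspace decomposition for Adams operations on `ℚ ⊗ K`. -/

namespace LambdaSpLib

open Finset LambdaRing TensorProduct Module.End

universe u

variable {A : Type u} [CommRing A] [LambdaOps A] (P : PosStructure A)

/-- `ℚ F^n`. -/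
def qF (n : ℕ) : Submodule ℚ (ℚ ⊗[ℤ] A) :=
  Submodule.span ℚ ((fun x : A => (1 : ℚ) ⊗ₜ[ℤ] x) '' (gammaFiltration P n : Set A))

theorem qF_anti {a b : ℕ} (h : a ≤ b) : qF P b ≤ qF P a :=
  Submodule.span_mono (Set.image_mono fun _ hx => gf_anti P h hx)

theorem tmul_mem_qF {n : ℕ} {x : A} (hx : x ∈ gammaFiltration P n) (q : ℚ) :
    q ⊗ₜ[ℤ] x ∈ qF P n := by
  have : q ⊗ₜ[ℤ] x = q • ((1 : ℚ) ⊗ₜ[ℤ] x) := by rw [TensorProduct.smul_tmul', smul_eq_mul, mul_one]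
  rw [this]
  exact Submodule.smul_mem _ _ (Submodule.subset_span ⟨x, hx, rfl⟩)

theorem qF_zero : qF P 0 = ⊤ := by
  refine eq_top_iff.2 fun z _ => ?_
  induction z using TensorProduct.induction_on with
  | zero => exact zero_mem _
  | tmul q x => exact tmul_mem_qF P (by rw [gf_zero]; trivial) q
  | add a b ha hb => exact add_mem (ha trivial) (hb trivial)

theorem qF_eq_bot {d n : ℕ} (hd : gammaFiltration P (d + 1) = ⊥) (h : d + 1 ≤ n) :
    qF P n = ⊥ := by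
  refine eq_bot_iff.2 ((qF_anti P h).trans (Submodule.span_le.2 ?_))
  rintro _ ⟨x, hx, rfl⟩
  rw [hd] at hx
  simp [AddSubgroup.mem_bot.1 hx]

variable (hP : HasSplitting A P) (j : ℕ) (Ψ : ℚ ⊗[ℤ] A →ₗ[ℚ] ℚ ⊗[ℤ] A)
  (hΨ : ∀ x : A, Ψ (1 ⊗ₜ[ℤ] x) = 1 ⊗ₜ[ℤ] adams P j x)

include hP hΨ in
theorem psi_sub_mem_qF (n : ℕ) {v : ℚ ⊗[ℤ] A} (hv : v ∈ qF P n) :
    Ψ v - ((j : ℚ) ^ n) • v ∈ qF P (n + 1) := by
  refine Submodule.span_induction (p := fun v _ => Ψ v - ((j : ℚ) ^ n) • v ∈ qF P (n + 1))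
    ?_ (by simp) (fun a b _ _ ha hb => by rw [map_add, smul_add, add_sub_add_comm]; exact add_mem ha hb)
    (fun c a _ ha => by rw [map_smul, smul_comm, ← smul_sub]; exact Submodule.smul_mem _ _ ha) hv
  rintro _ ⟨x, hx, rfl⟩
  have e : Ψ (1 ⊗ₜ[ℤ] x) - ((j : ℚ) ^ n) • ((1 : ℚ) ⊗ₜ[ℤ] x) =
      (1 : ℚ) ⊗ₜ[ℤ] (adams P j x - (j : A) ^ n * x) := by
    rw [hΨ, TensorProduct.tmul_sub]
    congr 1
    rw [show (j : A) ^ n * x = ((j : ℤ) ^ n) • x by simp, TensorProduct.tmul_smul,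
      ← Int.cast_smul_eq_zsmul ℚ ((j : ℤ) ^ n)]
    simp
  show Ψ (1 ⊗ₜ[ℤ] x) - ((j : ℚ) ^ n) • ((1 : ℚ) ⊗ₜ[ℤ] x) ∈ _
  rw [e]
  exact tmul_mem_qF P (adams_sub_pow_mem P hP j n hx) 1

include hP hΨ in
theorem eigen_mem_qF (hj : 2 ≤ j) {m : ℕ} {v : ℚ ⊗[ℤ] A} (hv : v ∈ eigenspace Ψ ((j : ℚ) ^ m))
    {a : ℕ} (ha : v ∈ qF P a) : ∀ n, (∀ i, a ≤ i → i < n → i ≠ m) → v ∈ qF P n := by
  intro n
  induction n with
  | zero => intro _; rw [qF_zero]; trivial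
  | succ n ih =>
    intro h
    rcases le_or_gt (n + 1) a with h' | h'
    · exact qF_anti P h' ha
    have hn := ih fun i hai hin => h i hai (Nat.lt_succ_of_lt hin)
    have h1 := psi_sub_mem_qF P hP j Ψ hΨ n hn
    rw [mem_eigenspace_iff.1 hv, ← sub_smul] at h1
    have hne : ((j : ℚ) ^ m - (j : ℚ) ^ n) ≠ 0 := by
      rw [sub_ne_zero]
      exact_mod_cast fun he => h n (by omega) (Nat.lt_succ_self n) ((Nat.pow_right_injective hj he).symm)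
    simpa [smul_smul, inv_mul_cancel₀ hne] using Submodule.smul_mem _ ((j : ℚ) ^ m - (j : ℚ) ^ n)⁻¹ h1

include hP hΨ in
theorem eigen_le_qF (hj : 2 ≤ j) (m : ℕ) : eigenspace Ψ ((j : ℚ) ^ m) ≤ qF P m := fun v hv =>
  eigen_mem_qF P hP j Ψ hΨ hj hv (a := 0) (by rw [qF_zero]; trivial) m fun _ _ h => h.ne

variable {d : ℕ} (hd : gammaFiltration P (d + 1) = ⊥)

include hP hΨ hd in
theorem eigen_inf_qF (hj : 2 ≤ j) (m : ℕ) :
    eigenspace Ψ ((j : ℚ) ^ m) ⊓ qF P (m + 1) = ⊥ := by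
  refine eq_bot_iff.2 fun v hv => ?_
  have := eigen_mem_qF P hP j Ψ hΨ hj hv.1 hv.2 (max (m + 1) (d + 1)) fun i hi _ => by omega
  rwa [qF_eq_bot P hd (le_max_right _ _)] at this

include hP hΨ hd in
theorem qF_le_iSup (hj : 2 ≤ j) :
    ∀ k m, d + 1 ≤ m + k → qF P m ≤ ⨆ i ∈ Ico m (m + k), eigenspace Ψ ((j : ℚ) ^ i) := by
  intro k
  induction k with
  | zero => intro m h; rw [qF_eq_bot P hd (by omega)]; exact bot_le
  | succ k ih =>
    intro m h x hx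
    set y := Ψ x - ((j : ℚ) ^ m) • x with hy
    have hym : y ∈ ⨆ i ∈ Ico (m + 1) (m + 1 + k), eigenspace Ψ ((j : ℚ) ^ i) :=
      ih (m + 1) (by omega) (psi_sub_mem_qF P hP j Ψ hΨ m hx)
    obtain ⟨c, hc⟩ := (Submodule.mem_iSup_finset_iff_exists_sum _ _).1 hym
    set z := ∑ i ∈ Ico (m + 1) (m + 1 + k), ((j : ℚ) ^ i - (j : ℚ) ^ m)⁻¹ • (c i : ℚ ⊗[ℤ] A)
    have hz : Ψ z - ((j : ℚ) ^ m) • z = y := by
      rw [← hc, map_sum, Finset.smul_sum, ← Finset.sum_sub_distrib]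
      refine Finset.sum_congr rfl fun i hi => ?_
      have hne : ((j : ℚ) ^ i - (j : ℚ) ^ m) ≠ 0 := by
        rw [sub_ne_zero]
        simp only [Finset.mem_Ico] at hi
        exact_mod_cast fun he => absurd (Nat.pow_right_injective hj he) (by omega)
      rw [map_smul, mem_eigenspace_iff.1 (c i).2, smul_smul, smul_smul, ← sub_smul, mul_comm,
        ← sub_mul, mul_inv_cancel₀ hne, one_smul]
    have hxz : x - z ∈ eigenspace Ψ ((j : ℚ) ^ m) := by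
      rw [mem_eigenspace_iff, map_sub, smul_sub, sub_eq_sub_iff_sub_eq_sub]
      rw [hz, hy]
    rw [← sub_add_cancel x z]
    refine add_mem (le_iSup₂_of_le (f := fun i (_ : i ∈ Ico m (m + (k + 1))) =>
      eigenspace Ψ ((j : ℚ) ^ i)) m (by simp) le_rfl hxz) ?_
    refine Submodule.sum_mem _ fun i hi => le_iSup₂_of_le (f := fun i (_ : i ∈ Ico m (m + (k + 1))) =>
      eigenspace Ψ ((j : ℚ) ^ i)) i ?_ le_rfl (Submodule.smul_mem _ _ (c i).2)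
    simp only [Finset.mem_Ico] at hi ⊢
    omega

include hP hΨ hd in
theorem eigen_sup_qF (hj : 2 ≤ j) (m : ℕ) :
    eigenspace Ψ ((j : ℚ) ^ m) ⊔ qF P (m + 1) = qF P m := by
  refine le_antisymm (sup_le (eigen_le_qF P hP j Ψ hΨ hj m) (qF_anti P (Nat.le_succ m))) ?_
  refine (qF_le_iSup P hP j Ψ hΨ hd hj (d + 1) m (by omega)).trans (iSup₂_le fun i hi => ?_)
  rcases eq_or_ne i m with rfl | h
  · exact le_sup_left
  · simp only [Finset.mem_Ico] at hi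
    exact ((eigen_le_qF P hP j Ψ hΨ hj i).trans (qF_anti P (by omega))).trans le_sup_right

include hP hΨ hd in
theorem iSup_eigen_eq_top (hj : 2 ≤ j) :
    (⨆ m ∈ range (d + 1), eigenspace Ψ ((j : ℚ) ^ m)) = ⊤ := by
  refine eq_top_iff.2 ?_
  rw [← qF_zero P]
  refine (qF_le_iSup P hP j Ψ hΨ hd hj (d + 1) 0 (by omega)).trans (iSup₂_le fun i hi => ?_)
  refine le_iSup₂_of_le (f := fun m (_ : m ∈ range (d + 1)) => eigenspace Ψ ((j : ℚ) ^ m)) i ?_ le_rfl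
  simpa using hi

include hP hd in
theorem eigen_le_eigen {l : ℕ} (hj : 2 ≤ j) (hl : 2 ≤ l) (Φ : ℚ ⊗[ℤ] A →ₗ[ℚ] ℚ ⊗[ℤ] A)
    (hΨ : ∀ x : A, Ψ (1 ⊗ₜ[ℤ] x) = 1 ⊗ₜ[ℤ] adams P j x)
    (hΦ : ∀ x : A, Φ (1 ⊗ₜ[ℤ] x) = 1 ⊗ₜ[ℤ] adams P l x) (m : ℕ) :
    eigenspace Ψ ((j : ℚ) ^ m) ≤ eigenspace Φ ((l : ℚ) ^ m) := by
  have hcomm : ∀ v, Φ (Ψ v) = Ψ (Φ v) := by
    intro v
    induction v using TensorProduct.induction_on with
    | zero => simp
    | tmul q x =>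
      have : q ⊗ₜ[ℤ] x = q • ((1 : ℚ) ⊗ₜ[ℤ] x) := by
        rw [TensorProduct.smul_tmul', smul_eq_mul, mul_one]
      rw [this, map_smul, map_smul, map_smul, map_smul, hΨ, hΦ, hΦ, hΨ, adams_comp P hP,
        adams_comp P hP, mul_comm]
    | add a b ha hb => simp [ha, hb]
  intro v hv
  have hvm : v ∈ eigenspace Φ ((l : ℚ) ^ m) ⊔ qF P (m + 1) := by
    rw [eigen_sup_qF P hP l Φ hΦ hd hl]; exact eigen_le_qF P hP j Ψ hΨ hj m hv
  obtain ⟨w, hw, z, hz, rfl⟩ := Submodule.mem_sup.1 hvm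
  have hwm : w ∈ qF P m := eigen_le_qF P hP l Φ hΦ hl m hw
  have hw1 : Ψ w - ((j : ℚ) ^ m) • w ∈ eigenspace Φ ((l : ℚ) ^ m) := by
    refine sub_mem ?_ (Submodule.smul_mem _ _ hw)
    rw [mem_eigenspace_iff, hcomm, mem_eigenspace_iff.1 hw, map_smul]
  have hw2 : w ∈ eigenspace Ψ ((j : ℚ) ^ m) := by
    rw [mem_eigenspace_iff, ← sub_eq_zero]
    exact (Submodule.eq_bot_iff _).1 (eigen_inf_qF P hP l Φ hΦ hd hl m) _
      ⟨hw1, psi_sub_mem_qF P hP j Ψ hΨ m hwm⟩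
  have hz0 : z = 0 :=
    (Submodule.eq_bot_iff _).1 (eigen_inf_qF P hP j Ψ hΨ hd hj m) _
      ⟨by simpa using sub_mem hv hw2, hz⟩
  rw [hz0, add_zero]; exact hw

section Log

open Polynomial

/-- Truncation of `log(1+X)`. -/
noncomputable def logT (d : ℕ) : ℚ[X] :=
  ∑ n ∈ range (d + 1), C ((-1 : ℚ) ^ n / ((n : ℚ) + 1)) * X ^ (n + 1)

theorem logT_deriv (d : ℕ) :
    (1 + X) * derivative (logT d) = 1 - (-X) ^ (d + 1) := by
  have h : derivative (logT d) = ∑ n ∈ range (d + 1), (-X : ℚ[X]) ^ n := by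
    rw [logT, derivative_sum]
    refine Finset.sum_congr rfl fun n _ => ?_
    rw [derivative_C_mul_X_pow, Nat.cast_succ, div_mul_cancel₀ _ (by positivity), Nat.add_sub_cancel,
      map_pow, map_neg, C_1]
    rw [neg_pow (X : ℚ[X])]
  rw [h, show (1 + X : ℚ[X]) = 1 - (-X) by ring, mul_neg_geom_sum]

theorem X_pow_dvd_log (d j : ℕ) :
    (X : ℚ[X]) ^ (d + 1) ∣ (logT d).comp ((1 + X) ^ j - 1) - C (j : ℚ) * logT d := by
  rcases Nat.eq_zero_or_pos j with rfl | hj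
  · simp [logT, Polynomial.comp, eval₂_finsetSum]
  set b : ℚ[X] := (1 + X) ^ j - 1 with hb
  set G := (logT d).comp b - C (j : ℚ) * logT d with hG
  obtain ⟨i, rfl⟩ := Nat.exists_eq_add_of_le hj
  have hXb : (X : ℚ[X]) ∣ b := by
    rw [X_dvd_iff, coeff_zero_eq_eval_zero, hb]; simp
  have h1 : (X : ℚ[X]) ^ (d + 1) ∣ (1 + X) * derivative G := by
    have e : (1 + X) * derivative G = C ((1 + i : ℕ) : ℚ) *
        ((-X) ^ (d + 1) - (-b) ^ (d + 1)) := by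
      have h2 := congrArg (fun p : ℚ[X] => p.comp b) (logT_deriv d)
      simp only [mul_comp, add_comp, sub_comp, one_comp, X_comp, pow_comp, neg_comp] at h2
      rw [show 1 + b = (1 + X) ^ (1 + i) by rw [hb]; ring] at h2
      rw [hG, derivative_sub, derivative_comp, derivative_C_mul, hb, derivative_sub, derivative_pow,
        derivative_add, derivative_one, derivative_X, ← hb, zero_add, mul_one, sub_zero]
      rw [show 1 + i - 1 = i by omega]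
      linear_combination C ((1 + i : ℕ) : ℚ) * h2 - C ((1 + i : ℕ) : ℚ) * logT_deriv d
    rw [e]
    refine Dvd.dvd.mul_left (dvd_sub ?_ ?_) _
    · exact pow_dvd_pow_of_dvd (dvd_neg.2 dvd_rfl) _
    · exact pow_dvd_pow_of_dvd (dvd_neg.2 hXb) _
  have h2 : (X : ℚ[X]) ^ (d + 1) ∣ derivative G := by
    refine (prime_X.pow_dvd_of_dvd_mul_left _ ?_ h1)
    rw [X_dvd_iff]; simp
  rw [X_pow_dvd_iff] at h2 ⊢
  intro n hn
  cases n with
  | zero =>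
    have hl : (logT d).eval 0 = 0 := by simp [logT, eval_finsetSum]
    rw [coeff_zero_eq_eval_zero]
    simp [hG, eval_comp, hb, hl]
  | succ n =>
    have := h2 n (by omega)
    rw [coeff_derivative] at this
    exact (mul_eq_zero.1 this).resolve_right (by positivity)

include hP hΨ hd in
theorem log_line_mem {u : A} (hu : P.IsLine u) :
    (∑ n ∈ range (d + 1), ((-1 : ℚ) ^ n / ((n : ℚ) + 1)) ⊗ₜ[ℤ] ((u - 1) ^ (n + 1))) ∈
      eigenspace Ψ (j : ℚ) := by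
  have hau : P.aug (u - 1) = 0 := by rw [map_sub, map_one, hu.2, sub_self]
  set N : ℚ ⊗[ℤ] A := (1 : ℚ) ⊗ₜ[ℤ] (u - 1) with hN
  have hNd : N ^ (d + 1) = 0 := by
    have := gf_pow P hau (d + 1)
    rw [hd] at this
    rw [hN, Algebra.TensorProduct.tmul_pow, AddSubgroup.mem_bot.1 this, TensorProduct.tmul_zero]
  have hL : ∀ v : A, Polynomial.aeval ((1 : ℚ) ⊗ₜ[ℤ] v) (logT d) =
      ∑ n ∈ range (d + 1), ((-1 : ℚ) ^ n / ((n : ℚ) + 1)) ⊗ₜ[ℤ] (v ^ (n + 1)) := by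
    intro v
    rw [logT, map_sum]
    refine Finset.sum_congr rfl fun n _ => ?_
    rw [map_mul, Polynomial.aeval_C, map_pow, Polynomial.aeval_X, Algebra.TensorProduct.tmul_pow,
      one_pow, Algebra.TensorProduct.algebraMap_apply, Algebra.TensorProduct.tmul_mul_tmul, one_mul,
      Algebra.algebraMap_self_apply, mul_one]
  rw [mem_eigenspace_iff, map_sum]
  have hterm : ∀ n : ℕ, Ψ (((-1 : ℚ) ^ n / ((n : ℚ) + 1)) ⊗ₜ[ℤ] ((u - 1) ^ (n + 1))) =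
      ((-1 : ℚ) ^ n / ((n : ℚ) + 1)) ⊗ₜ[ℤ] ((u ^ j - 1) ^ (n + 1)) := by
    intro n
    have hq : ∀ (q : ℚ) (v : A), q ⊗ₜ[ℤ] v = q • ((1 : ℚ) ⊗ₜ[ℤ] v) := fun q v => by
      rw [TensorProduct.smul_tmul', smul_eq_mul, mul_one]
    rw [hq, map_smul, hΨ, ← hq, ← adamsRingHom_apply P hP, map_pow, map_sub, map_one,
      adamsRingHom_apply, adams_line hu]
  simp only [hterm]
  rw [← hL, ← hL]
  obtain ⟨c, hc⟩ := X_pow_dvd_log d j
  have := congrArg (Polynomial.aeval N) hc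
  rw [map_sub, map_mul, map_mul, map_pow, Polynomial.aeval_X, hNd, zero_mul, sub_eq_zero,
    Polynomial.aeval_comp, Polynomial.aeval_C] at this
  rw [map_sub, map_pow, map_add, map_one, Polynomial.aeval_X] at this
  have hb : (1 + N) ^ j - 1 = (1 : ℚ) ⊗ₜ[ℤ] (u ^ j - 1) := by
    rw [hN, Algebra.TensorProduct.one_def, ← TensorProduct.tmul_add, Algebra.TensorProduct.tmul_pow,
      one_pow, add_sub_cancel, ← TensorProduct.tmul_sub]
  rw [hb] at this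
  rw [this, ← Algebra.smul_def]

end Log

end LambdaSpLib
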