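import Groth.Agent.LambdaSpL.Universal

/-! Existence of the universal polynomials `P_n`, `Q_{i,j}`. -/

namespace LambdaSpLib

open MvPolynomial Finset LambdaRing

universe u

variable {R : Type u} [CommRing R]

theorem exists_eOne_eq {n : ℕ} {p : MvPolynomial (Fin n) R} (h : p.IsSymmetric) :
    ∃ q, eOne R n n q = p := by
  obtain ⟨q, hq⟩ := esymmAlgHom_surjective (σ := Fin n) (R := R) (n := n) (by simp) ⟨p, h⟩
  exact ⟨q, (esymmAlgHom_apply q).symm.trans (congrArg Subtype.val hq)⟩

theorem mem_range_map_of_coeff {σ : Type*} {S : Type u} [CommRing S] (f : R →+* S)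
    (p : MvPolynomial σ S) (h : ∀ d, ∃ a, f a = coeff d p) : ∃ q, MvPolynomial.map f q = p := by
  choose a ha using h
  refine ⟨∑ d ∈ p.support, monomial d (a d), ?_⟩
  rw [map_sum]
  simp only [map_monomial, ha]
  exact p.as_sum.symm

theorem map_eOne {S : Type u} [CommRing S] (f : R →+* S) (N n : ℕ) (q : MvPolynomial (Fin n) R) :
    MvPolynomial.map f (eOne R N n q) = eOne S N n (MvPolynomial.map f q) := by
  induction q using MvPolynomial.induction_on with
  | C r => simp [eOne]
  | add p q hp hq => simp only [map_add, hp, hq]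
  | mul_X p i hp => rw [map_mul, map_mul, map_mul, map_mul, hp]; simp [eOne, map_esymm]

/-- A polynomial symmetric in each of two families is a polynomial in their elementary symmetric
functions. -/
theorem exists_eTwo_eq {n : ℕ} (D : MvPolynomial (Fin n ⊕ Fin n) R)
    (h : ∀ σ τ : Equiv.Perm (Fin n), rename (Sum.map σ τ) D = D) : ∃ P, eTwo R n n P = D := by
  let el := sumAlgEquiv R (Fin n) (Fin n)
  have hl : ∀ (σ : Equiv.Perm (Fin n)) p, el (rename (Sum.map σ id) p) = rename σ (el p) := by
    intro σ p
    induction p using MvPolynomial.induction_on with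
    | C r => simp [el]
    | add p q hp hq => simp only [map_add, hp, hq]
    | mul_X p i hp => rw [map_mul, map_mul, map_mul, map_mul, hp]; rcases i with k | k <;> simp [el]
  have hr : ∀ (τ : Equiv.Perm (Fin n)) p,
      el (rename (Sum.map id τ) p) = MvPolynomial.map (rename τ).toRingHom (el p) := by
    intro τ p
    induction p using MvPolynomial.induction_on with
    | C r => simp [el]
    | add p q hp hq => simp only [map_add, hp, hq]
    | mul_X p i hp => rw [map_mul, map_mul, map_mul, map_mul, hp]; rcases i with k | k <;> simp [el]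
  have hsym : (el D).IsSymmetric := fun σ => by rw [← hl]; exact congrArg el (h σ (Equiv.refl _))
  obtain ⟨p, hp⟩ := exists_eOne_eq hsym
  obtain ⟨q, hq⟩ := mem_range_map_of_coeff (eOne R n n).toRingHom p fun d => exists_eOne_eq fun τ => by
    have : MvPolynomial.map (rename τ).toRingHom p = p := by
      refine eOne_injective le_rfl ?_
      rw [← map_eOne, hp, ← hr]
      exact congrArg el (h (Equiv.refl _) τ)
    conv_rhs => rw [← this, coeff_map]
    rfl
  refine ⟨(sumAlgEquiv R (Fin n) (Fin n)).symm q, el.injective ?_⟩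
  rw [← hp, ← hq, sumAlgEquiv_eTwo, AlgEquiv.apply_symm_apply]

theorem aeval_weightedHomogeneousComponent {σ τ M : Type*} [AddCommMonoid M] {w : σ → M} {w' : τ → M}
    {v : σ → MvPolynomial τ R} (hv : ∀ i, IsWeightedHomogeneous w' (v i) (w i)) (m : M)
    (p : MvPolynomial σ R) :
    aeval v (weightedHomogeneousComponent w m p) = weightedHomogeneousComponent w' m (aeval v p) := by
  induction p using MvPolynomial.induction_on' with
  | add p q hp hq => simp only [map_add, hp, hq]
  | monomial d r =>
    have h : IsWeightedHomogeneous w' (aeval v (monomial d r)) (Finsupp.weight w d) := by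
      rw [aeval_monomial, algebraMap_eq, Finsupp.weight_apply, Finsupp.sum, Finsupp.prod]
      exact (IsWeightedHomogeneous.prod d.support _ _ fun i _ => (hv i).pow _).C_mul r
    rcases eq_or_ne (Finsupp.weight w d) m with rfl | hne
    · rw [(isWeightedHomogeneous_monomial w d r rfl).weightedHomogeneousComponent_same,
        h.weightedHomogeneousComponent_same]
    · rw [(isWeightedHomogeneous_monomial w d r rfl).weightedHomogeneousComponent_ne m hne.symm,
        h.weightedHomogeneousComponent_ne m hne.symm, map_zero]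

theorem isWeightedHomogeneous_rename {σ τ M : Type*} [AddCommMonoid M] {f : σ → τ}
    (hf : Function.Injective f) (w : τ → M) {p : MvPolynomial σ R} {m : M}
    (hp : IsWeightedHomogeneous (w ∘ f) p m) : IsWeightedHomogeneous w (rename f p) m := by
  intro d hd
  obtain ⟨u, rfl, hu⟩ := coeff_rename_ne_zero f p d hd
  rw [← hp hu, Finsupp.weight_apply, Finsupp.weight_apply]
  exact Finsupp.sum_mapDomain_index_inj hf

theorem isWeightedHomogeneous_esymm_const {M : Type*} [AddCommMonoid M] (n k : ℕ) (c : M) :
    IsWeightedHomogeneous (fun _ : Fin n => c) (esymm (Fin n) R k) (k • c) := by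
  rw [esymm]
  refine IsWeightedHomogeneous.sum _ _ _ fun t ht => ?_
  have := IsWeightedHomogeneous.prod (w := fun _ : Fin n => c) t (fun i => (X i : MvPolynomial (Fin n) R))
    (fun _ => c) fun i _ => isWeightedHomogeneous_X R _ i
  rwa [Finset.sum_const, (Finset.mem_powersetCard.mp ht).2] at this

theorem isWeightedHomogeneous_multiset_esymm {σ M α : Type*} [AddCommMonoid M] {w : σ → M}
    (s : Finset α) (f : α → MvPolynomial σ R) (c : M) (h : ∀ a ∈ s, IsWeightedHomogeneous w (f a) c)
    (k : ℕ) : IsWeightedHomogeneous w ((s.val.map f).esymm k) (k • c) := by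
  rw [Finset.esymm_map_val]
  refine IsWeightedHomogeneous.sum _ _ _ fun t ht => ?_
  have := IsWeightedHomogeneous.prod (w := w) t f (fun _ => c)
    fun a ha => h a ((Finset.mem_powersetCard.mp ht).1 ha)
  rwa [Finset.sum_const, (Finset.mem_powersetCard.mp ht).2] at this

theorem exists_mulPoly (n : ℕ) : ∃ P : MvPolynomial (Fin n ⊕ Fin n) ℤ, IsMulPoly n P := by
  have hsym : ∀ σ τ : Equiv.Perm (Fin n), rename (Sum.map σ τ) (mulGen n n) = mulGen n n := by
    intro σ τ
    rw [mulGen, ← AlgHom.coe_toRingHom, map_multiset_esymm, Multiset.map_map]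
    congr 1
    conv_rhs => rw [← Multiset.map_univ_val_equiv (σ.prodCongr τ), Multiset.map_map]
    exact Multiset.map_congr rfl fun ab _ => by simp
  obtain ⟨P, hP⟩ := exists_eTwo_eq (mulGen n n) hsym
  let w : Fin n ⊕ Fin n → ℕ × ℕ :=
    Sum.elim (fun k : Fin n => (((k : ℕ) + 1, 0) : ℕ × ℕ)) (fun k : Fin n => ((0, (k : ℕ) + 1) : ℕ × ℕ))
  let w' : Fin n ⊕ Fin n → ℕ × ℕ := Sum.elim (fun _ => (1, 0)) (fun _ => (0, 1))
  refine ⟨weightedHomogeneousComponent w (n, n) P, ?_,
    weightedHomogeneousComponent_isWeightedHomogeneous (n, n) P⟩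
  have hD : IsWeightedHomogeneous w' (mulGen n n) (n, n) := by
    have := isWeightedHomogeneous_multiset_esymm (w := w') (R := ℤ) (univ : Finset (Fin n × Fin n))
      (fun ab => X (Sum.inl ab.1) * X (Sum.inr ab.2)) (1, 1)
      (fun ab _ => by
        simpa [w'] using (isWeightedHomogeneous_X ℤ w' (Sum.inl (Prod.fst ab))).mul
          (isWeightedHomogeneous_X ℤ w' (Sum.inr (Prod.snd ab)))) n
    simpa [mulGen] using this
  rw [aeval_weightedHomogeneousComponent (w' := w') ?_ (n, n) P]
  · show weightedHomogeneousComponent w' (n, n) (eTwo ℤ n n P) = _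
    rw [hP, hD.weightedHomogeneousComponent_same]
  · rintro (k | k)
    · refine isWeightedHomogeneous_rename Sum.inl_injective _ ?_
      simpa [w, w', Function.comp_def] using
        isWeightedHomogeneous_esymm_const (R := ℤ) n ((k : ℕ) + 1) ((1, 0) : ℕ × ℕ)
    · refine isWeightedHomogeneous_rename Sum.inr_injective _ ?_
      simpa [w, w', Function.comp_def] using
        isWeightedHomogeneous_esymm_const (R := ℤ) n ((k : ℕ) + 1) ((0, 1) : ℕ × ℕ)

theorem exists_compPoly (i j : ℕ) : ∃ Q : MvPolynomial (Fin (i * j)) ℤ, IsCompPoly i j Q := by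
  have hsym : (compGen (i * j) i j).IsSymmetric := by
    intro σ
    rw [compGen, ← AlgHom.coe_toRingHom, map_multiset_esymm, Multiset.map_map]
    congr 1
    have h : ((univ : Finset (Fin (i * j))).powersetCard i).map (Finset.mapEmbedding σ.toEmbedding).toEmbedding =
        (univ : Finset (Fin (i * j))).powersetCard i := by
      rw [← Finset.powersetCard_map, Finset.map_univ_equiv]
    conv_rhs => rw [← h, Finset.map_val, Multiset.map_map]
    exact Multiset.map_congr rfl fun t _ => by simp [map_prod]
  obtain ⟨Q, hQ⟩ := exists_eOne_eq hsym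
  refine ⟨weightedHomogeneousComponent (fun k : Fin (i * j) => (k : ℕ) + 1) (i * j) Q, ?_,
    weightedHomogeneousComponent_isWeightedHomogeneous (i * j) Q⟩
  have hD : IsWeightedHomogeneous (fun _ : Fin (i * j) => 1) (compGen (i * j) i j) (i * j) := by
    have := isWeightedHomogeneous_multiset_esymm (w := fun _ : Fin (i * j) => (1 : ℕ)) (R := ℤ)
      ((univ : Finset (Fin (i * j))).powersetCard i) (fun s => ∏ a ∈ s, X a) i
      (fun s hs => by
        have := IsWeightedHomogeneous.prod (w := fun _ : Fin (i * j) => (1 : ℕ)) s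
          (fun a => (X a : MvPolynomial (Fin (i * j)) ℤ)) (fun _ => 1)
          fun a _ => isWeightedHomogeneous_X ℤ _ a
        simpa [(Finset.mem_powersetCard.mp hs).2] using this) j
    simpa [compGen, mul_comm] using this
  rw [aeval_weightedHomogeneousComponent (w' := fun _ : Fin (i * j) => 1) ?_ (i * j) Q]
  · show weightedHomogeneousComponent (fun _ : Fin (i * j) => 1) (i * j) (eOne ℤ (i * j) (i * j) Q) = _
    rw [hQ, hD.weightedHomogeneousComponent_same]
  · intro k
    simpa using isWeightedHomogeneous_esymm_const (R := ℤ) (i * j) ((k : ℕ) + 1) (1 : ℕ)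

end LambdaSpLib
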