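import Groth.Agent.LambdaSpL.Gamma
import Groth.Agent.LambdaSpL.Exists
import Mathlib.RingTheory.MvPolynomial.Ideal

/-! The free `K`-`λ`-algebra over a binomial ring, in the `γ`-coordinates. -/

namespace LambdaSpLib

open MvPolynomial Finset LambdaRing fwdDiff fwdDiff_aux

universe u v w

section General

variable {R : Type u} [CommRing R] {S : Type v} [CommRing S] [Algebra ℚ R] [Algebra ℚ S]

/-- The power sums of a `γ`-sequence. -/
def pOf {R : Type u} [CommRing R] (G : ℕ → R) (l : ℕ) : R :=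
  if l = 0 then 0 else gSeq (lamT G) l

@[simp] theorem pOf_zero {R : Type u} [CommRing R] (G : ℕ → R) : pOf G 0 = 0 := rfl

theorem map_pOf {R : Type u} [CommRing R] {S : Type v} [CommRing S] (f : R →+* S) (G : ℕ → R)
    (l : ℕ) : f (pOf G l) = pOf (f ∘ G) l := by
  rcases eq_or_ne l 0 with rfl | hl
  · simp
  · simp only [pOf, if_neg hl]
    rw [map_gSeq f (by rw [lamT]) l (by omega)]
    congr 1
    funext n
    exact map_lamT f G n

theorem newtonRel_pOf {R : Type u} [CommRing R] (G : ℕ → R) : NewtonRel (lamT G) (pOf G) :=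
  (newtonRel_gSeq (by rw [lamT])).congr (fun _ => rfl) fun k hk => by
    rw [pOf, if_neg (by omega)]

omit [Algebra ℚ S] in
theorem fSeq_pOf (G : ℕ → R) (n : ℕ) : fSeq (pOf G) n = lamT G n :=
  (fSeq_eq (by rw [lamT]) (newtonRel_pOf G) n).symm

omit [Algebra ℚ S] in
theorem fSeq_zero_succ (n : ℕ) : fSeq (fun _ => (0 : R)) (n + 1) = 0 := by
  rw [← fSeq_eq (R := R) (p := fun _ => 0) (E := fun n => if n = 0 then 1 else 0) rfl
    (fun n => by simp) (n + 1)]
  simp

/-- The `γ`-sequence of a dilation. -/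
noncomputable def dilG (G : ℕ → R) (k : ℕ) (j : ℕ) : R := gamT (fSeq fun l => pOf G (k * l)) j

theorem map_dilG (f : R →+* S) (G : ℕ → R) (k j : ℕ) : f (dilG G k j) = dilG (f ∘ G) k j := by
  rw [dilG, map_gamT, dilG]
  refine gamT_congr j fun m _ _ => ?_
  rw [Function.comp_apply, map_fSeq]
  exact fSeq_congr fun l _ _ => map_pOf f G (k * l)

omit [Algebra ℚ S] in
theorem newtonRel_dilG (G : ℕ → R) (k : ℕ) :
    NewtonRel (dilG G k) (fun i => Δ_[1]^[i] (fun l => pOf G (k * l)) 0) :=
  newtonRel_gamT (by rw [fSeq]) (by simp) (newtonRel_fSeq _)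

omit [Algebra ℚ S] in
theorem fwdDiff_iter_geom (a : R) (i n : ℕ) :
    Δ_[1]^[i + 1] (fun m => (1 + a) ^ m - 1) n = a ^ (i + 1) * (1 + a) ^ n := by
  induction i generalizing n with
  | zero => simp [fwdDiff, pow_succ]; ring
  | succ i ih =>
    rw [Function.iterate_succ_apply' _ (i + 1), fwdDiff, ih, ih]
    ring

omit [Algebra ℚ S] in
theorem gamT_fSeq_geom (s : Multiset R) (j : ℕ) :
    gamT (fSeq fun l => (s.map fun a => (1 + a) ^ l - 1).sum) j = s.esymm j := by
  have h : NewtonRel (gamT (fSeq fun l => (s.map fun a => (1 + a) ^ l - 1).sum))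
      (fun i => Δ_[1]^[i] (fun l => (s.map fun a => (1 + a) ^ l - 1).sum) 0) :=
    newtonRel_gamT (by rw [fSeq]) (by simp) (newtonRel_fSeq _)
  rw [fSeq_eq (gamT_zero _) h j, fSeq_eq (E := fun n => s.esymm n) (by simp [Multiset.esymm])
    (newtonRel_esymm s) j]
  refine fSeq_congr fun l hl _ => ?_
  obtain ⟨i, rfl⟩ := Nat.exists_eq_succ_of_ne_zero (show l ≠ 0 by omega)
  clear h hl
  induction s using Multiset.induction_on with
  | empty =>
    rw [fwdDiff_iter_eq_sum_shift]
    simp
  | cons a s ih =>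
    simp only [Multiset.map_cons, Multiset.sum_cons] at ih ⊢
    have e : (fun l => (1 + a) ^ l - 1 + (s.map fun a => (1 + a) ^ l - 1).sum) =
        (fun l => (1 + a) ^ l - 1) + fun l => (s.map fun a => (1 + a) ^ l - 1).sum := rfl
    rw [e, fwdDiff_iter_add, Pi.add_apply, ih, fwdDiff_iter_geom]
    simp

omit [Algebra ℚ S] in
/-- Dilations preserve truncation of `γ`-sequences. -/
theorem dilG_eq_zero (d : ℕ) (G : ℕ → R) (hG0 : G 0 = 1) (hG : ∀ j, d < j → G j = 0) (k : ℕ)
    {j : ℕ} (hj : d < j) : dilG G k j = 0 := by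
  let G₀ : ℕ → MvPolynomial (Fin d) ℚ := eX ℚ id
  have h₀ : dilG G₀ k j = 0 := by
    apply eOne_injective (R := ℚ) (le_refl d)
    rw [map_zero]
    let θ : MvPolynomial (Fin d) ℚ →+* MvPolynomial (Fin d) ℚ := (eOne ℚ d d).toRingHom
    show θ (dilG G₀ k j) = 0
    let s : Multiset (MvPolynomial (Fin d) ℚ) := (univ : Finset (Fin d)).val.map fun a => X a
    have hθ : ∀ m, θ (G₀ m) = s.esymm m := by
      intro m
      rw [show s.esymm m = esymm (Fin d) ℚ m from (esymm_eq_multiset_esymm (Fin d) ℚ).symm ▸ rfl]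
      rcases m with _ | m
      · simp [θ, G₀, eX]
      · by_cases h : m < d
        · simp [θ, G₀, eX, h, eOne]
        · simp only [θ, G₀, eX, dif_neg h, map_zero]
          rw [esymm, powersetCard_eq_empty.2 (by simp; omega)]
          simp
    rw [map_dilG]
    have hp : ∀ l, pOf (⇑θ ∘ G₀) l = (s.map fun a => (1 + a) ^ l - 1).sum := by
      intro l
      rcases eq_or_ne l 0 with rfl | hl
      · simp
      refine (NewtonRel.p_unique (E := lamT (⇑θ ∘ G₀)) (q := fun l => (s.map fun a => (1 + a) ^ l - 1).sum) (by rw [lamT]) (newtonRel_pOf _) ?_ l (by omega))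
      refine (newtonRel_fSeq fun l => (s.map fun a => (1 + a) ^ l - 1).sum).congr (fun n => ?_)
        fun _ _ => rfl
      rw [← lamT_gamT (E := fSeq fun l => (s.map fun a => (1 + a) ^ l - 1).sum) (by rw [fSeq]) n]
      congr 1
      funext m
      exact (gamT_fSeq_geom s m).trans (hθ m).symm
    have hs : (fun l => pOf (⇑θ ∘ G₀) (k * l)) =
        fun l => ((s.map fun a => (1 + a) ^ k - 1).map fun a => (1 + a) ^ l - 1).sum := by
      funext l
      rw [hp, Multiset.map_map (fun a => (1 + a) ^ l - 1) (fun a => (1 + a) ^ k - 1) s]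
      refine congrArg Multiset.sum (Multiset.map_congr rfl fun a _ => ?_)
      simp [← pow_mul]
    rw [dilG, hs, gamT_fSeq_geom, Multiset.esymm, Multiset.powersetCard_eq_empty]
    · simp
    · simpa [s] using hj
  let ev : MvPolynomial (Fin d) ℚ →+* R := (aeval fun i : Fin d => G ((i : ℕ) + 1)).toRingHom
  have := congrArg ev h₀
  rw [map_dilG, map_zero] at this
  convert this using 2
  funext m
  rcases m with _ | m
  · simp [G₀, eX, hG0]
  · by_cases h : m < d
    · simp [G₀, eX, h, ev]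
    · simp [G₀, eX, h, hG (m + 1) (by omega)]

end General

section Weights

variable {σ : Type w} {R : Type u} [CommRing R]

/-- The weight of the coordinate `(r, j)`, standing for `γ^(j+1)` of the generator `r`. -/
def wt (x : σ × ℕ) : ℕ := x.2 + 1

/-- Polynomials all of whose monomials have weight at least `k`. -/
noncomputable def Wt (σ : Type w) (R : Type u) [CommRing R] (k : ℕ) :
    Ideal (MvPolynomial (σ × ℕ) R) :=
  restrictSupportIdeal (R := R) {d | k ≤ Finsupp.weight wt d} fun a b hab ha => by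
    obtain ⟨c, rfl⟩ := exists_add_of_le hab
    simp only [Set.mem_setOf_eq, map_add] at ha ⊢
    omega

/-- Polynomials all of whose monomials involve some `γ^j` of `r` with `j > d`. -/
noncomputable def Jt (R : Type u) [CommRing R] (r : σ) (d : ℕ) :
    Ideal (MvPolynomial (σ × ℕ) R) :=
  restrictSupportIdeal (R := R) {m | ∃ j, d ≤ j ∧ m (r, j) ≠ 0} fun a b hab ⟨j, hj, h⟩ =>
    ⟨j, hj, fun h0 => h (Nat.le_zero.1 ((hab (r, j)).trans h0.le))⟩

theorem mem_Wt {k : ℕ} {f : MvPolynomial (σ × ℕ) R} :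
    f ∈ Wt σ R k ↔ ∀ m ∈ f.support, k ≤ Finsupp.weight wt m := Iff.rfl

theorem mem_Jt {r : σ} {d : ℕ} {f : MvPolynomial (σ × ℕ) R} :
    f ∈ Jt R r d ↔ ∀ m ∈ f.support, ∃ j, d ≤ j ∧ m (r, j) ≠ 0 := Iff.rfl

theorem isFilt_Wt : IsFilt (Wt σ R) where
  zero := by rw [eq_top_iff]; exact fun f _ m _ => Nat.zero_le _
  anti a b hab f hf m hm := hab.trans (hf hm)
  mul := by
    classical
    intro a b x y hx hy m hm
    obtain ⟨i, hi, j, hj, rfl⟩ := Finset.mem_add.1 (support_mul x y hm)
    show a + b ≤ _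
    rw [map_add]
    exact Nat.add_le_add (hx hi) (hy hj)

theorem monomial_mem_Wt {k : ℕ} {m : σ × ℕ →₀ ℕ} (h : k ≤ Finsupp.weight wt m) (c : R) :
    monomial m c ∈ Wt σ R k := by
  classical
  intro m' hm'
  have := support_monomial_subset hm'
  rw [Finset.mem_singleton] at this
  subst this
  exact h

theorem X_mem_Wt {x : σ × ℕ} {k : ℕ} (h : k ≤ x.2 + 1) : (X x : MvPolynomial (σ × ℕ) R) ∈ Wt σ R k :=
  monomial_mem_Wt (by rw [Finsupp.weight_single]; simpa [wt] using h) 1

theorem X_mem_Jt {r : σ} {d j : ℕ} (h : d ≤ j) : (X (r, j) : MvPolynomial (σ × ℕ) R) ∈ Jt R r d := by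
  classical
  intro m hm
  have := support_monomial_subset hm
  rw [Finset.mem_singleton] at this
  exact ⟨j, h, by simp [this]⟩

theorem Jt_eq_span (r : σ) (d : ℕ) :
    Jt R r d = Ideal.span ((fun j => (X (r, j) : MvPolynomial (σ × ℕ) R)) '' {j | d ≤ j}) := by
  refine le_antisymm (fun f hf => ?_) (Ideal.span_le.2 ?_)
  · rw [show ((fun j => (X (r, j) : MvPolynomial (σ × ℕ) R)) '' {j | d ≤ j}) =
      X '' ((fun j => (r, j)) '' {j | d ≤ j}) from (Set.image_image _ _ _).symm,
      mem_ideal_span_X_image]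
    intro m hm
    obtain ⟨j, hj, h⟩ := hf hm
    exact ⟨(r, j), ⟨j, hj, rfl⟩, h⟩
  · rintro _ ⟨j, hj, rfl⟩
    exact X_mem_Jt hj

theorem constantCoeff_eq_zero_of_mem_Wt {f : MvPolynomial (σ × ℕ) R} (h : f ∈ Wt σ R 1) :
    constantCoeff f = 0 := by
  rw [constantCoeff_eq]
  by_contra hc
  have := h (mem_support_iff.2 hc)
  simp at this

end Weights

section Free

variable {σ : Type w} {K : Type u} [CommRing K] [BinomialRing K]

noncomputable instance ratAlgebra : Algebra ℚ (Localization (natPos K)) := (ratHom K).toAlgebra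

/-- The free algebra, in `γ`-coordinates, over `K ⊗ ℚ`. -/
abbrev FreeQ (σ : Type w) (K : Type u) [CommRing K] := MvPolynomial (σ × ℕ) (Localization (natPos K))

/-- The inclusion of the integral free algebra. -/
noncomputable abbrev toQ : MvPolynomial (σ × ℕ) K →+* FreeQ σ K :=
  MvPolynomial.map (algebraMap K (Localization (natPos K)))

theorem toQ_injective : Function.Injective (toQ (σ := σ) (K := K)) :=
  map_injective _ (IsLocalization.injective _ natPos_le)

theorem toQ_mem_Wt {k : ℕ} {f : MvPolynomial (σ × ℕ) K} :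
    toQ f ∈ Wt σ _ k ↔ f ∈ Wt σ K k := by
  rw [mem_Wt, mem_Wt, support_map_of_injective f (IsLocalization.injective _ natPos_le)]

theorem toQ_mem_Jt {r : σ} {d : ℕ} {f : MvPolynomial (σ × ℕ) K} :
    toQ f ∈ Jt _ r d ↔ f ∈ Jt K r d := by
  rw [mem_Jt, mem_Jt, support_map_of_injective f (IsLocalization.injective _ natPos_le)]

/-- The `γ`-sequence of a generator. -/
noncomputable def gY (R : Type v) [CommRing R] (r : σ) : ℕ → MvPolynomial (σ × ℕ) R
  | 0 => 1
  | j + 1 => X (r, j)

theorem gY_mem {R : Type v} [CommRing R] (r : σ) (n : ℕ) : gY R r n ∈ Wt σ R n := by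
  cases n with
  | zero => rw [(isFilt_Wt).zero]; trivial
  | succ n => exact X_mem_Wt le_rfl

/-- The Adams endomorphisms of the free algebra. -/
noncomputable def psi (k : ℕ) : FreeQ σ K →ₐ[Localization (natPos K)] FreeQ σ K :=
  aeval fun x => dilG (gY _ x.1) k (x.2 + 1)

theorem psi_gY (k : ℕ) (r : σ) (n : ℕ) :
    psi (K := K) k (gY _ r n) = dilG (gY _ r) k n := by
  cases n with
  | zero => simp [gY, dilG]
  | succ n => simp [gY, psi]

theorem psi_pOf (k : ℕ) (r : σ) (l : ℕ) :
    psi (K := K) k (pOf (gY _ r) l) = pOf (gY _ r) (k * l) := by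
  rcases eq_or_ne l 0 with rfl | hl
  · simp
  rw [← AlgHom.coe_toRingHom, map_pOf, pOf, if_neg hl]
  have : lamT ((psi (K := K) k).toRingHom ∘ gY _ r) = fSeq (fun l => pOf (gY _ r) (k * l)) := by
    funext n
    rw [show ((psi (K := K) k).toRingHom ∘ gY _ r) = dilG (gY _ r) k from funext (psi_gY k r)]
    exact lamT_gamT (by rw [fSeq]) n
  exact (congrArg (fun E => gSeq E l) this).trans (gSeq_fSeq _ l (by omega))

theorem psi_psi (a b : ℕ) (f : FreeQ σ K) : psi a (psi b f) = psi (a * b) f := by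
  have : (psi (σ := σ) (K := K) a).comp (psi b) = psi (a * b) := by
    refine MvPolynomial.algHom_ext fun x => ?_
    simp only [AlgHom.comp_apply]
    rw [show psi (K := K) b (X x) = dilG (gY _ x.1) b (x.2 + 1) by simp [psi],
      show psi (K := K) (a * b) (X x) = dilG (gY _ x.1) (a * b) (x.2 + 1) by simp [psi],
      dilG, dilG, ← AlgHom.coe_toRingHom, map_gamT]
    refine gamT_congr _ fun m _ _ => ?_
    rw [Function.comp_apply, map_fSeq]
    exact fSeq_congr fun l _ _ => by
      rw [Function.comp_apply, AlgHom.coe_toRingHom, psi_pOf, mul_assoc]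
  exact DFunLike.congr_fun this f

theorem psi_one (f : FreeQ σ K) : psi 1 f = f := by
  have : psi (σ := σ) (K := K) 1 = AlgHom.id _ _ := by
    refine MvPolynomial.algHom_ext fun x => ?_
    rw [show psi (K := K) 1 (X x) = dilG (gY _ x.1) 1 (x.2 + 1) by simp [psi], dilG]
    simp only [one_mul]
    rw [gamT_congr (F := lamT (gY _ x.1)) _ fun m _ _ => fSeq_pOf _ m,
      gamT_lamT (by rfl)]
    rfl
  exact DFunLike.congr_fun this f

theorem psi_zero (f : FreeQ σ K) : psi 0 f = C (constantCoeff f) := by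
  induction f using MvPolynomial.induction_on with
  | C c => simp [psi]
  | add f g hf hg => simp [hf, hg]
  | mul_X f x _ =>
    rw [map_mul, show psi (K := K) 0 (X x) = dilG (gY _ x.1) 0 (x.2 + 1) by simp [psi], dilG]
    simp only [zero_mul, pOf_zero]
    rw [gamT_congr (F := fun _ => 0) _ fun m hm _ => by
      obtain ⟨i, rfl⟩ := Nat.exists_eq_succ_of_ne_zero (show m ≠ 0 by omega)
      exact fSeq_zero_succ i]
    simp [gamT_succ]

theorem aeval_int {α : Type*} {S : Type*} [CommRing S] {_I : Algebra ℤ S} (v : α → S)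
    (P : MvPolynomial α ℤ) : aeval v P = eval₂Hom (Int.castRingHom S) v P := by
  rw [aeval_def, RingHom.ext_int (algebraMap ℤ S) (Int.castRingHom S)]
  rfl

/-- The `λ`-operations of the free algebra. -/
noncomputable def lamQ (n : ℕ) (f : FreeQ σ K) : FreeQ σ K := fSeq (fun k => psi k f) n

/-- The `γ`-operations of the free algebra. -/
noncomputable def gamQ (n : ℕ) (f : FreeQ σ K) : FreeQ σ K := gamT (fun j => lamQ j f) n

theorem lamQ_zero (f : FreeQ σ K) : lamQ 0 f = 1 := by rw [lamQ, fSeq]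

theorem lamQ_C (hc : K) (n : ℕ) :
    lamQ n (toQ (σ := σ) (C hc)) = toQ (C (Ring.choose hc n)) := by
  refine (fSeq_eq (E := fun n => toQ (σ := σ) (C (Ring.choose hc n)))
    (by simp) ?_ n).symm
  refine ((newtonRel_choose hc).map ((toQ (σ := σ)).comp C)).congr (fun _ => rfl) fun k _ => ?_
  simp [psi]

theorem lamQ_add (n : ℕ) (f g : FreeQ σ K) :
    lamQ n (f + g) = ∑ i ∈ range (n + 1), lamQ i f * lamQ (n - i) g := by
  refine (fSeq_eq (E := fun n => ∑ i ∈ range (n + 1), lamQ i f * lamQ (n - i) g)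
    (by simp [lamQ_zero]) ?_ n).symm
  refine (newtonRel_mul (newtonRel_fSeq fun k => psi k f) (newtonRel_fSeq fun k => psi k g) ?_).congr
    (fun _ => rfl) fun k _ => by simp
  ext m
  simp [PowerSeries.coeff_mul, Finset.Nat.sum_antidiagonal_eq_sum_range_succ_mk, lamQ]

theorem lamQ_mul {n : ℕ} {P : MvPolynomial (Fin n ⊕ Fin n) ℤ} (hP : IsMulPoly n P)
    (f g : FreeQ σ K) : lamQ n (f * g) =
      aeval (Sum.elim (fun k : Fin n => lamQ ((k : ℕ) + 1) f)
        (fun k : Fin n => lamQ ((k : ℕ) + 1) g)) P := by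
  rw [lamQ]
  refine (fSeq_congr fun k _ _ => map_mul (psi k) f g).trans
    ((mulPoly_fSeq hP (fun k => psi k f) (fun k => psi k g)).symm.trans ?_)
  rw [aeval_int, aeval_int]
  rfl

theorem lamQ_lamQ {i j : ℕ} {Q : MvPolynomial (Fin (i * j)) ℤ} (hQ : IsCompPoly i j Q)
    (f : FreeQ σ K) : lamQ j (lamQ i f) = aeval (fun k : Fin (i * j) => lamQ ((k : ℕ) + 1) f) Q := by
  rw [lamQ]
  refine (fSeq_congr (q := fun l => fSeq (fun r => psi (l * r) f) i) fun l _ _ => ?_).trans
    ((compPoly_fSeq hQ fun k => psi k f).symm.trans ?_)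
  · rw [lamQ, ← AlgHom.coe_toRingHom, map_fSeq]
    exact fSeq_congr fun r _ _ => psi_psi l r f
  · rw [aeval_int, aeval_int]
    rfl

theorem lamQ_pOf_one (n : ℕ) (r : σ) :
    lamQ n (pOf (gY (Localization (natPos K)) r) 1) = lamT (gY _ r) n := by
  rw [lamQ, ← fSeq_pOf]
  exact fSeq_congr fun k _ _ => by rw [psi_pOf, mul_one]

/-- The integral `λ`-sequence of a generator. -/
noncomputable def lY (K : Type u) [CommRing K] (r : σ) : ℕ → MvPolynomial (σ × ℕ) K :=
  lamT (gY K r)

theorem toQ_lY (r : σ) (n : ℕ) : toQ (lY K r n) = lamT (gY _ r) n := by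
  rw [lY, map_lamT]
  congr 1
  funext m
  cases m <;> simp [gY]

section Universal

variable [LambdaOps K] {A : Type v} [CommRing A] [LambdaOps A] (f : K →+* A) (a : σ → A)

/-- The map of the free algebra sending the generators to given elements. -/
noncomputable def phi : MvPolynomial (σ × ℕ) K →+* A :=
  eval₂Hom f fun x => gamma (x.2 + 1) (a x.1)

omit [BinomialRing K] [LambdaOps K] in
theorem phi_gY (r : σ) (n : ℕ) : phi f a (gY K r n) = gamma n (a r) := by
  cases n with
  | zero => simp [gY, gamma]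
  | succ n => simp [gY, phi]

omit [BinomialRing K] [LambdaOps K] in
theorem phi_lY (r : σ) (n : ℕ) : phi f a (lY K r n) = LambdaOps.lam n (a r) := by
  rw [lY, map_lamT, show (phi f a ∘ gY K r) = gamT (fun j => LambdaOps.lam j (a r)) from
    funext (phi_gY f a r)]
  exact lamT_gamT (E := fun j => LambdaOps.lam j (a r)) (LambdaOps.lam_zero (a r)) n

variable (hKb : IsBinomial K) (hf : ∀ (n : ℕ) (x : K), f (LambdaOps.lam n x) = LambdaOps.lam n (f x))
  (hA : IsSpecial A)

/-- Elements whose `λ`-operations stay integral and are respected by `phi`. -/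
def IsGood (u : MvPolynomial (σ × ℕ) K) : Prop :=
  ∀ n, ∃ v, toQ v = lamQ n (toQ u) ∧ phi f a v = LambdaOps.lam n (phi f a u)

include hKb hf in
theorem isGood_C (c : K) : IsGood f a (C c) := fun n =>
  ⟨C (Ring.choose c n), (lamQ_C c n).symm, by
    simp only [phi, eval₂Hom_C]
    rw [← hKb n c, hf]⟩

omit [LambdaOps K] in
theorem IsGood.add {u u' : MvPolynomial (σ × ℕ) K} (h : IsGood f a u) (h' : IsGood f a u') :
    IsGood f a (u + u') := fun n => by
  choose v hv hv' using h
  choose v' hw hw' using h'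
  refine ⟨∑ i ∈ range (n + 1), v i * v' (n - i), ?_, ?_⟩
  · simp [map_sum, hv, hw, lamQ_add]
  · simp [map_sum, hv', hw', LambdaOps.lam_add]

include hA in
omit [LambdaOps K] in
theorem IsGood.mul {u u' : MvPolynomial (σ × ℕ) K} (h : IsGood f a u) (h' : IsGood f a u') :
    IsGood f a (u * u') := fun n => by
  choose v hv hv' using h
  choose v' hw hw' using h'
  obtain ⟨P, hP⟩ := exists_mulPoly n
  refine ⟨aeval (Sum.elim (fun k : Fin n => v ((k : ℕ) + 1)) (fun k : Fin n => v' ((k : ℕ) + 1))) P,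
    ?_, ?_⟩
  · rw [map_aeval_sum, map_mul, lamQ_mul hP]
    simp only [hv, hw]
  · rw [map_aeval_sum, map_mul, hA.lam_mul n P hP]
    simp only [hv', hw']

include hA in
omit [LambdaOps K] in
theorem isGood_lY (r : σ) (i : ℕ) : IsGood f a (lY K r i) := fun n => by
  obtain ⟨Q, hQ⟩ := exists_compPoly i n
  refine ⟨aeval (fun k : Fin (i * n) => lY K r ((k : ℕ) + 1)) Q, ?_, ?_⟩
  · rw [map_aeval_int, toQ_lY, ← lamQ_pOf_one, lamQ_lamQ hQ]
    simp only [toQ_lY, lamQ_pOf_one]
  · rw [map_aeval_int, phi_lY, hA.lam_lam i n Q hQ]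
    simp only [phi_lY]

include hKb hf hA in
theorem isGood (u : MvPolynomial (σ × ℕ) K) : IsGood f a u := by
  induction u using MvPolynomial.induction_on with
  | C c => exact isGood_C f a hKb hf c
  | add u u' h h' => exact h.add f a h'
  | mul_X u x h =>
    refine h.mul f a hA ?_
    have e : (X x : MvPolynomial (σ × ℕ) K) = gamT (lY K x.1) (x.2 + 1) := by
      rw [lY, gamT_lamT rfl]; rfl
    rw [e, gamT_succ]
    induction range (x.2 + 1) using Finset.induction_on with
    | empty =>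
      rw [sum_empty, ← C_0]
      exact isGood_C f a hKb hf 0
    | insert i s hi ih =>
      rw [sum_insert hi]
      refine IsGood.add f a ?_ ih
      rw [← map_natCast (C : K →+* MvPolynomial (σ × ℕ) K)]
      exact (isGood_C f a hKb hf _).mul f a hA (isGood_lY f a hA x.1 (i + 1))

include hKb hf hA in
theorem exists_gamma (n : ℕ) (u : MvPolynomial (σ × ℕ) K) :
    ∃ v, toQ v = gamQ n (toQ u) ∧ phi f a v = gamma n (phi f a u) := by
  choose v hv hv' using isGood f a hKb hf hA u
  refine ⟨gamT v n, ?_, ?_⟩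
  · rw [map_gamT, gamQ]
    exact gamT_congr n fun m _ _ => hv m
  · rw [map_gamT, gamma_eq_gamT]
    exact gamT_congr n fun m _ _ => hv' m

end Universal

end Free

end LambdaSpLib
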