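import Groth.Agent.LambdaSpL.TransferRows
import Mathlib.RingTheory.Adjoin.Basic

/-! The `γ`-filtration of an algebra generated by one element over an augmented `λ`-algebra, and in
terms of additive generators. -/

namespace LambdaSpLib

open MvPolynomial Finset LambdaRing

universe u v w

section Over

variable {K : Type u} [CommRing K] [LambdaOps K] [BinomialRing K]
  {A : Type v} [CommRing A] [LambdaOps A] [Algebra K A]
  {B : Type w} [CommRing B] [LambdaOps B] [Algebra K B] [Algebra A B] [IsScalarTower K A B]

theorem gammaFil_eq_span_over (hKb : IsBinomial K) (hB : IsSpecial B) (εA : A →ₐ[K] K)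
    (hAB : IsLambdaAlg A B) (εB : B →ₐ[K] K) (hεB : IsAugLambdaAlg K B εB)
    (hεAB : ∀ a : A, εB (algebraMap A B a) = εA a) (x : B) (hx : εB x = 0)
    (hgen : Algebra.adjoin A (Set.range fun j : ℕ => gamma (j + 1) x) = ⊤) (k : ℕ) :
    gammaFil (εB : B →+* K) k = Ideal.span {b : B | ∃ (e : ℕ →₀ ℕ) (a : A),
      a ∈ gammaFil (εA : A →+* K) (k - e.sum fun j n => (j + 1) * n) ∧
        b = algebraMap A B a * e.prod fun j n => gamma (j + 1) x ^ n} := by
  classical
  let T : ℕ → Ideal B := fun k => Ideal.span {b : B | ∃ (e : ℕ →₀ ℕ) (a : A),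
      a ∈ gammaFil (εA : A →+* K) (k - e.sum fun j n => (j + 1) * n) ∧
        b = algebraMap A B a * e.prod fun j n => gamma (j + 1) x ^ n}
  have hFA := isFilt_gammaFil (εA : A →+* K)
  have hFB := isFilt_gammaFil (εB : B →+* K)
  have hT : IsFilt T :=
    { zero := (Ideal.eq_top_iff_one _).2
        (Ideal.subset_span ⟨0, 1, by simp [hFA.zero], by simp⟩)
      anti := fun p q hpq => Ideal.span_mono fun b ⟨e, a, ha, hb⟩ =>
        ⟨e, a, hFA.anti (Nat.sub_le_sub_right hpq _) ha, hb⟩
      mul := by
        intro p q y z hy hz
        induction hy using Submodule.span_induction with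
        | mem y hy =>
          induction hz using Submodule.span_induction with
          | mem z hz =>
            obtain ⟨e, a, ha, rfl⟩ := hy
            obtain ⟨e', a', ha', rfl⟩ := hz
            refine Ideal.subset_span ⟨e + e', a * a', hFA.anti ?_ (hFA.mul ha ha'), ?_⟩
            · rw [Finsupp.sum_add_index' (h := fun j n => (j + 1) * n) (fun j => mul_zero (j + 1))
                fun j m n => mul_add _ m n]
              omega
            · rw [Finsupp.prod_add_index' (fun _ => pow_zero _) fun _ _ _ => pow_add _ _ _, map_mul]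
              ring
          | zero => simp
          | add p' q' _ _ h h' => rw [mul_add]; exact Ideal.add_mem _ h h'
          | smul c p' _ h => rw [smul_eq_mul, mul_left_comm]; exact Ideal.mul_mem_left _ _ h
        | zero => simp
        | add p' q' _ _ h h' => rw [add_mul]; exact Ideal.add_mem _ h h'
        | smul c p' _ h => rw [smul_eq_mul, mul_assoc]; exact Ideal.mul_mem_left _ _ h }
  let a : Option (kerGen εA) → B := fun o => o.elim x fun c => algebraMap A B c.1
  have ha : ∀ r, εB (a r) = 0 := by
    rintro (_ | c)
    · exact hx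
    · exact (hεAB c.1).trans c.2
  have hg : ∀ (n : ℕ) (c : A), algebraMap A B (gamma n c) = gamma n (algebraMap A B c) :=
    fun n c => (map_gamT _ _ n).trans (gamT_congr n fun m _ _ => hAB m c)
  refine le_antisymm (gammaFil_le_of_generated hKb hB hεB a ha ?_ hT (fun r j => ?_) k)
    (Ideal.span_le.2 ?_)
  · intro z
    have : z ∈ Algebra.adjoin A (Set.range fun j : ℕ => gamma (j + 1) x) := hgen ▸ Algebra.mem_top
    induction this using Algebra.adjoin_induction with
    | mem z hz => obtain ⟨j, rfl⟩ := hz; exact ⟨X (none, j), by simp [phi, a]⟩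
    | algebraMap c =>
      let r : kerGen εA := ⟨c - algebraMap K A (εA c), by simp⟩
      refine ⟨C (εA c) + X (some r, 0), ?_⟩
      simp [phi, a, r, gamma_one, ← IsScalarTower.algebraMap_apply]
    | add p q _ _ h h' =>
      obtain ⟨U, rfl⟩ := h; obtain ⟨U', rfl⟩ := h'; exact ⟨U + U', map_add _ _ _⟩
    | mul p q _ _ h h' =>
      obtain ⟨U, rfl⟩ := h; obtain ⟨U', rfl⟩ := h'; exact ⟨U * U', map_mul _ _ _⟩
  · rcases r with _ | c
    · refine Ideal.subset_span ⟨Finsupp.single j 1, 1, ?_, ?_⟩
      · rw [Finsupp.sum_single_index (by simp), mul_one, Nat.sub_self, hFA.zero]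
        trivial
      · simp [a]
    · refine Ideal.subset_span ⟨0, gamma (j + 1) c.1, ?_, ?_⟩
      · simpa using gamma_mem_gammaFil (εA : A →+* K) (j + 1) c.2
      · simp [a, hg]
  · rintro _ ⟨e, c, hc, rfl⟩
    have hc' := map_gammaFil_le hKb hεB (algebraMap A B) (εA : A →+* K) (fun n c => hAB n c)
      (fun c => hεAB c) _ hc
    refine hFB.anti ?_ (hFB.mul hc' 
      (?_ : (e.prod fun j n => gamma (j + 1) x ^ n) ∈
        gammaFil (εB : B →+* K) (e.sum fun j n => (j + 1) * n)))
    · omega
    · rw [Finsupp.sum, Finsupp.prod]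
      induction e.support using Finset.induction_on with
      | empty => simp [hFB.zero]
      | insert j s hj ih =>
        rw [sum_insert hj, prod_insert hj, mul_comm (j + 1)]
        exact hFB.mul (hFB.prod_pow_mem (gamma_mem_gammaFil _ _ hx) _) ih

end Over

section Generators

variable {K : Type u} [CommRing K] {A : Type v} [CommRing A] [LambdaOps A] [Algebra K A]

theorem gammaFil_restrictScalars_eq (ε : A →ₐ[K] K) (S : Set A) (hS : AddSubgroup.closure S = ⊤)
    (n : ℕ) :
    (gammaFil (ε : A →+* K) n).restrictScalars K = Submodule.span K {y : A | ∃ l : List (ℕ × A),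
      (∀ p ∈ l, p.2 ∈ S) ∧ n ≤ (l.map Prod.fst).sum ∧
        y = (l.map fun p => gamma p.1 (p.2 - algebraMap K A (ε p.2))).prod} := by
  let M : ℕ → Submodule K A := fun n => Submodule.span K {y : A | ∃ l : List (ℕ × A),
      (∀ p ∈ l, p.2 ∈ S) ∧ n ≤ (l.map Prod.fst).sum ∧
        y = (l.map fun p => gamma p.1 (p.2 - algebraMap K A (ε p.2))).prod}
  let δ : A →+ A := AddMonoidHom.id A -
    ((algebraMap K A).toAddMonoidHom.comp (ε : A →+* K).toAddMonoidHom)
  have hδ : ∀ z, δ z = z - algebraMap K A (ε z) := fun z => rfl
  have hmono : ∀ {p q : ℕ}, p ≤ q → M q ≤ M p := fun hpq =>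
    Submodule.span_mono fun y ⟨l, hl, hs, hy⟩ => ⟨l, hl, hpq.trans hs, hy⟩
  have hmul : ∀ {p q : ℕ} {y z : A}, y ∈ M p → z ∈ M q → y * z ∈ M (p + q) := by
    intro p q y z hy hz
    induction hy using Submodule.span_induction with
    | mem y hy =>
      induction hz using Submodule.span_induction with
      | mem z hz =>
        obtain ⟨l, hl, hs, rfl⟩ := hy
        obtain ⟨l', hl', hs', rfl⟩ := hz
        refine Submodule.subset_span ⟨l ++ l',
          fun p hp => (List.mem_append.1 hp).elim (hl p) (hl' p), ?_, by simp⟩
        simp only [List.map_append, List.sum_append]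
        omega
      | zero => simp
      | add p' q' _ _ h h' => rw [mul_add]; exact add_mem h h'
      | smul c p' _ h => rw [mul_smul_comm]; exact Submodule.smul_mem _ _ h
    | zero => simp
    | add p' q' _ _ h h' => rw [add_mul]; exact add_mem h h'
    | smul c p' _ h => rw [smul_mul_assoc]; exact Submodule.smul_mem _ _ h
  have h1 : (1 : A) ∈ M 0 := Submodule.subset_span ⟨[], by simp, le_rfl, by simp⟩
  -- `γ^i` of elements of augmentation zero
  have hgam : ∀ z i, gamma i (δ z) ∈ M i := by
    intro z
    have hz : z ∈ AddSubgroup.closure S := hS ▸ AddSubgroup.mem_top z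
    induction hz using AddSubgroup.closure_induction with
    | mem s hs =>
      exact fun i => Submodule.subset_span ⟨[(i, s)], by simpa using hs, by simp, by simp [hδ]⟩
    | zero =>
      intro i
      rcases Nat.eq_zero_or_pos i with rfl | hi
      · exact h1
      · rw [map_zero, gamma_zero_arg i hi]; exact zero_mem _
    | add y z _ _ hy hz =>
      intro i
      rw [map_add, gamma_add]
      refine sum_mem fun j hj => ?_
      have := hmul (hy j) (hz (i - j))
      rwa [show j + (i - j) = i by simp at hj; omega] at this
    | neg y _ hy =>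
      intro i
      induction i using Nat.strong_induction_on with
      | h i ih =>
        match i with
        | 0 => exact h1
        | m + 1 =>
          rw [map_neg, gamma_neg]
          refine neg_mem (sum_mem fun j hj => ?_)
          simp only [mem_range] at hj
          have := hmul (hy (j + 1)) (by rw [← map_neg δ]; exact ih (m - j) (by omega) :
            gamma (m - j) (-δ y) ∈ M (m - j))
          rwa [show j + 1 + (m - j) = m + 1 by omega] at this
  have hall : ∀ z, z ∈ M 0 := fun z => by
    rw [show z = ε z • (1 : A) + δ z by simp [hδ, Algebra.smul_def]]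
    refine add_mem (Submodule.smul_mem _ _ h1) ?_
    have := hgam z 1
    rw [gamma_one] at this
    exact hmono (Nat.zero_le 1) this
  have hsm : ∀ {p : ℕ} (c : A) {y : A}, y ∈ M p → c * y ∈ M p := fun c y hy => by
    have := hmul (hall c) hy
    rwa [zero_add] at this
  let T : ℕ → Ideal A := fun p =>
    { carrier := M p
      add_mem' := fun h h' => (M p).add_mem h h'
      zero_mem' := (M p).zero_mem
      smul_mem' := fun c y hy => hsm c hy }
  have hT : IsFilt T :=
    { zero := eq_top_iff.2 fun z _ => hall z
      anti := fun p q hpq z hz => hmono hpq hz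
      mul := fun hy hz => hmul hy hz }
  refine le_antisymm (fun y hy => ?_) (Submodule.span_le.2 ?_)
  · refine gammaFil_le (ε : A →+* K) hT (fun i z hz => ?_) n hy
    show gamma i z ∈ M i
    have := hgam z i
    rwa [hδ, show ε z = 0 from hz, map_zero, sub_zero] at this
  · rintro _ ⟨l, hl, hs, rfl⟩
    refine Ideal.subset_span ⟨l.map fun p => (p.1, p.2 - algebraMap K A (ε p.2)), ?_, ?_, ?_⟩
    · simp only [List.mem_map]
      rintro _ ⟨p, -, rfl⟩
      simp
    · simpa [List.map_map, Function.comp_def] using hs
    · simp [List.map_map, Function.comp_def]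

end Generators

end LambdaSpLib
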