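import Groth.Prelude.Def_LambdaSp
import Mathlib.RingTheory.MvPolynomial.Symmetric.Defs
import Mathlib.Algebra.Algebra.Rat
import Mathlib.Tactic.Abel

/-! Newton's relation between `λ`-operations and Adams operations. -/

namespace LambdaSpLib

open PowerSeries Finset LambdaRing

universe u v

variable {R : Type u} [CommRing R] {S : Type v} [CommRing S]

/-- `(n+1) e_{n+1} = ∑ (-1)^i p_{i+1} e_{n-i}`. -/
def NewtonRel (E p : ℕ → R) : Prop :=
  ∀ n : ℕ, ((n : R) + 1) * E (n + 1) = ∑ i ∈ range (n + 1), (-1) ^ i * p (i + 1) * E (n - i)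

theorem newtonRel_iff_derivative {E p : ℕ → R} :
    NewtonRel E p ↔ d⁄dX R (mk E) = mk (fun i => (-1) ^ i * p (i + 1)) * mk E := by
  rw [PowerSeries.ext_iff]
  refine forall_congr' fun n => ?_
  rw [coeff_derivative, coeff_mul, Finset.Nat.sum_antidiagonal_eq_sum_range_succ_mk]
  simp [mul_comm]

theorem NewtonRel.map {E p : ℕ → R} (h : NewtonRel E p) (f : R →+* S) :
    NewtonRel (f ∘ E) (f ∘ p) := fun n => by
  simpa using congrArg f (h n)

theorem NewtonRel.congr {E p E' p' : ℕ → R} (h : NewtonRel E p) (hE : ∀ n, E n = E' n)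
    (hp : ∀ n, 1 ≤ n → p n = p' n) : NewtonRel E' p' := fun n => by
  rw [← hE, h n]
  exact sum_congr rfl fun i _ => by rw [hp _ (Nat.le_add_left 1 i), hE]

theorem NewtonRel.p_unique {E p q : ℕ → R} (h0 : E 0 = 1) (hp : NewtonRel E p) (hq : NewtonRel E q) :
    ∀ k, 1 ≤ k → p k = q k := by
  intro k
  induction k using Nat.strong_induction_on with
  | h k ih =>
    intro hk
    obtain ⟨m, rfl⟩ := Nat.exists_eq_succ_of_ne_zero (by omega : k ≠ 0)
    have h := (hp m).symm.trans (hq m)
    rw [sum_range_succ, sum_range_succ, Nat.sub_self, h0, mul_one, mul_one,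
      sum_congr rfl (fun i hi => by rw [ih (i + 1) (by simp at hi; omega) (by omega)]), add_right_inj]
      at h
    exact (IsUnit.pow m isUnit_one.neg).mul_left_cancel h

theorem NewtonRel.e_unique (htf : ∀ n : ℕ, n ≠ 0 → ∀ a : R, (n : R) * a = 0 → a = 0)
    {E F p q : ℕ → R} (hE0 : E 0 = F 0) (hE : NewtonRel E p) (hF : NewtonRel F q) :
    ∀ n, (∀ k, 1 ≤ k → k ≤ n → p k = q k) → E n = F n := by
  intro n
  induction n using Nat.strong_induction_on with
  | h n ih =>
    intro hpq
    match n with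
    | 0 => exact hE0
    | m + 1 =>
      refine sub_eq_zero.mp (htf (m + 1) (by omega) _ ?_)
      rw [mul_sub, Nat.cast_succ, hE m, hF m, sub_eq_zero]
      refine sum_congr rfl fun i hi => ?_
      simp only [mem_range] at hi
      rw [ih (m - i) (by omega) (fun k hk hk' => hpq k hk (by omega)), hpq (i + 1) (by omega) (by omega)]

theorem newtonRel_mul {E F p q G : ℕ → R} (hE : NewtonRel E p) (hF : NewtonRel F q)
    (hG : mk G = mk E * mk F) : NewtonRel G (p + q) := by
  rw [newtonRel_iff_derivative] at hE hF ⊢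
  rw [hG, (d⁄dX R).leibniz, hE, hF, smul_eq_mul, smul_eq_mul]
  have : mk (fun i => (-1) ^ i * (p + q) (i + 1)) =
      mk (fun i => (-1) ^ i * p (i + 1)) + mk (fun i => (-1) ^ i * q (i + 1)) := by
    ext i; simp [mul_add]
  rw [this]; ring

theorem newtonRel_esymm (s : Multiset R) :
    NewtonRel (fun n => s.esymm n) (fun k => (s.map fun a => a ^ k).sum) := by
  induction s using Multiset.induction_on with
  | empty =>
    intro n
    simp [Multiset.esymm]
  | cons a s ih =>
    have h1 : NewtonRel (fun n => if n = 0 then 1 else if n = 1 then a else 0) (fun k => a ^ k) := by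
      intro n
      cases n with
      | zero => simp
      | succ m =>
        rw [sum_range_succ, sum_range_succ, sum_eq_zero]
        · simp [pow_succ]; ring
        · intro i hi
          simp only [mem_range] at hi
          simp [show m + 1 - i ≠ 0 by omega, show m + 1 - i ≠ 1 by omega]
    refine (newtonRel_mul h1 ih ?_).congr (fun _ => rfl) (fun k _ => by simp)
    ext n
    cases n with
    | zero => simp [coeff_mul, Multiset.esymm]
    | succ m =>
      rw [coeff_mk, coeff_mul, Finset.Nat.sum_antidiagonal_eq_sum_range_succ_mk, sum_range_succ',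
        sum_range_succ']
      rw [sum_eq_zero (fun i _ => by simp)]
      simp only [coeff_mk, if_pos, zero_add, Nat.sub_zero, one_mul]
      simp only [Multiset.esymm, Multiset.powersetCard_cons, Multiset.map_add, Multiset.sum_add,
        Multiset.map_map]
      simp [Multiset.sum_map_mul_left]
      ring

section Recursions

/-- The power sums as integral polynomials in the elementary functions. -/
def gSeq (E : ℕ → R) : ℕ → R
  | 0 => 0
  | k + 1 => (-1) ^ k * (((k : R) + 1) * E (k + 1) -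
      ∑ i : Fin k, (-1) ^ (i : ℕ) * gSeq E ((i : ℕ) + 1) * E (k - (i : ℕ)))
  decreasing_by exact Nat.succ_lt_succ i.isLt

theorem newtonRel_gSeq {E : ℕ → R} (h0 : E 0 = 1) : NewtonRel E (gSeq E) := fun n => by
  rw [sum_range_succ, Nat.sub_self, h0, mul_one, gSeq, ← mul_assoc, ← pow_add,
    Even.neg_one_pow ⟨n, rfl⟩, one_mul, Fin.sum_univ_eq_sum_range
      (fun i => (-1) ^ i * gSeq E (i + 1) * E (n - i))]
  ring

variable [Algebra ℚ R] [Algebra ℚ S]

/-- The elementary functions as rational polynomials in the power sums. -/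
noncomputable def fSeq (p : ℕ → R) : ℕ → R
  | 0 => 1
  | n + 1 => ((n : ℚ) + 1)⁻¹ • ∑ i : Fin (n + 1), (-1) ^ (i : ℕ) * p ((i : ℕ) + 1) * fSeq p (n - (i : ℕ))
  decreasing_by omega

omit [Algebra ℚ S] in
theorem newtonRel_fSeq (p : ℕ → R) : NewtonRel (fSeq p) p := fun n => by
  have hc : ((n : R) + 1) = algebraMap ℚ R ((n : ℚ) + 1) := by simp
  rw [fSeq, Fin.sum_univ_eq_sum_range (fun i => (-1) ^ i * p (i + 1) * fSeq p (n - i)), hc,
    ← Algebra.smul_def, smul_smul, mul_inv_cancel₀ (by positivity), one_smul]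

omit [Algebra ℚ S] in
theorem natCast_mul_cancel (n : ℕ) (hn : n ≠ 0) (a : R) (h : (n : R) * a = 0) : a = 0 := by
  rw [show (n : R) = algebraMap ℚ R n by simp, ← Algebra.smul_def] at h
  exact (smul_eq_zero_iff_right (Nat.cast_ne_zero.mpr hn : (n : ℚ) ≠ 0)).mp h

omit [Algebra ℚ S] in
theorem fSeq_eq {E p : ℕ → R} (h0 : E 0 = 1) (h : NewtonRel E p) (n : ℕ) : E n = fSeq p n :=
  h.e_unique natCast_mul_cancel (by rw [h0, fSeq]) (newtonRel_fSeq p) n fun _ _ _ => rfl

omit [Algebra ℚ S] in
theorem fSeq_congr {p q : ℕ → R} {n : ℕ} (h : ∀ k, 1 ≤ k → k ≤ n → p k = q k) :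
    fSeq p n = fSeq q n :=
  (newtonRel_fSeq p).e_unique natCast_mul_cancel (by rw [fSeq, fSeq]) (newtonRel_fSeq q) n h

theorem map_fSeq (f : R →+* S) (p : ℕ → R) (n : ℕ) : f (fSeq p n) = fSeq (f ∘ p) n :=
  fSeq_eq (E := f ∘ fSeq p) (by simp [fSeq]) ((newtonRel_fSeq p).map f) n

end Recursions

section LambdaOps

variable {K : Type u} [CommRing K] [LambdaOps K]

theorem newtonRel_lam (x : K) :
    NewtonRel (fun n => LambdaOps.lam n x) (fun k => adamsOp k x) := by
  rw [newtonRel_iff_derivative]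
  have hpow : mk (fun i => (-1) ^ i * adamsOp (i + 1) x) = logDerivSeries x := by
    ext i
    rw [coeff_mk, adamsOp, ← mul_assoc, ← pow_add, Even.neg_one_pow ⟨i, rfl⟩, one_mul]
  rw [hpow, logDerivSeries, show (mk fun n => LambdaOps.lam n x) = lamSeries x from rfl]
  have hinv : (lamSeries x).invOfUnit 1 * lamSeries x = 1 := by
    rw [mul_comm]
    exact mul_invOfUnit _ 1 (by simp [lamSeries, ← coeff_zero_eq_constantCoeff, LambdaOps.lam_zero])
  rw [mul_assoc, hinv, mul_one]

theorem adamsOp_eq_of_newtonRel {x : K} {p : ℕ → K}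
    (h : NewtonRel (fun n => LambdaOps.lam n x) p) (k : ℕ) (hk : 1 ≤ k) : adamsOp k x = p k :=
  NewtonRel.p_unique (LambdaOps.lam_zero x) (newtonRel_lam x) h k hk

theorem adamsOp_eq_gSeq (x : K) (k : ℕ) (hk : 1 ≤ k) :
    adamsOp k x = gSeq (fun n => LambdaOps.lam n x) k :=
  adamsOp_eq_of_newtonRel (newtonRel_gSeq (LambdaOps.lam_zero x)) k hk

theorem adamsOp_add (k : ℕ) (hk : 1 ≤ k) (x y : K) : adamsOp k (x + y) = adamsOp k x + adamsOp k y := by
  refine adamsOp_eq_of_newtonRel (p := fun k => adamsOp k x + adamsOp k y) ?_ k hk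
  refine newtonRel_mul (newtonRel_lam x) (newtonRel_lam y) ?_
  ext n
  rw [coeff_mk, LambdaOps.lam_add, coeff_mul, Finset.Nat.sum_antidiagonal_eq_sum_range_succ_mk]
  simp

theorem adamsOp_one_apply (x : K) : adamsOp 1 x = x := by
  rw [adamsOp_eq_gSeq x 1 le_rfl]
  rw [gSeq]; simp [LambdaOps.lam_one]

theorem adamsOp_one' (h1 : ∀ n : ℕ, 2 ≤ n → LambdaOps.lam n (1 : K) = 0) (k : ℕ) (hk : 1 ≤ k) :
    adamsOp k (1 : K) = 1 := by
  refine adamsOp_eq_of_newtonRel (p := fun _ => 1) ?_ k hk
  refine (newtonRel_esymm ({1} : Multiset K)).congr (fun n => ?_) (fun k _ => by simp)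
  match n with
  | 0 => simp [Multiset.esymm, LambdaOps.lam_zero]
  | 1 => simp [Multiset.esymm, LambdaOps.lam_one, Multiset.powersetCard_one]
  | m + 2 => simp [Multiset.esymm, h1 (m + 2) (by omega), Multiset.powersetCard_eq_empty]

end LambdaOps

end LambdaSpLib
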