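import Groth.Agent.LambdaSpL.Transfer

/-! Consequences for special `λ`-rings. -/

namespace LambdaSpLib

open MvPolynomial Finset LambdaRing
open scoped nonZeroDivisors

universe u v w

section Divisibility

variable {K : Type u} [CommRing K] [LambdaOps K]

theorem lamAlt_dvd (hK : IsSpecial K) (d : ℕ) (N : K)
    (hN : ∀ i : ℕ, d < i → LambdaOps.lam i N = 0) (p : ℕ) (hp : 1 ≤ p) (x : K) :
    (∑ i ∈ range (d + 1), (-1 : K) ^ i * LambdaOps.lam i N) ∣
      LambdaOps.lam p (x * ∑ i ∈ range (d + 1), (-1 : K) ^ i * LambdaOps.lam i N) := by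
  rcases Nat.eq_zero_or_pos d with rfl | hd
  · simp [LambdaOps.lam_zero]
  letI : LambdaOps ℤ := binomialLambdaOps ℤ
  have hb : IsBinomial ℤ := fun _ _ => rfl
  have hf : ∀ (n : ℕ) (z : ℤ), Int.castRingHom K (LambdaOps.lam n z) =
      LambdaOps.lam n (Int.castRingHom K z) := fun n z =>
    (lam_intCast hK.lam_one_eq_zero z n).symm
  set D := ∑ i ∈ range (d + 1), (-1 : K) ^ i * LambdaOps.lam i N
  let a : Bool → K := fun b => if b then N - (d : K) else (-1) ^ d * x
  let U : MvPolynomial (Bool × ℕ) ℤ := X (false, 0) * X (true, d - 1)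
  have hU : U ∈ Jt ℤ true (d - 1) := Ideal.mul_mem_left _ _ (X_mem_Jt le_rfl)
  obtain ⟨V, hV, hV'⟩ := exists_lam_spec (Int.castRingHom K) a hb hf hK p hp U hU
  obtain ⟨Y, -, hY⟩ := exists_mul_of_mem_Jt (Int.castRingHom K) a (r := true) hd
    (fun j hj => gamma_sub_rank_eq_zero hK.lam_one_eq_zero hN hj) (p := 0) hV
    (by rw [isFilt_Wt.zero]; trivial)
  have hUx : phi (Int.castRingHom K) a U = x * D := by
    simp only [U, a, phi, map_mul, eval₂Hom_X', zero_add, gamma_one, Bool.false_eq_true, if_false,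
      if_true]
    have hs : (-1 : K) ^ d * (-1) ^ d = 1 := by rw [← pow_add, Even.neg_one_pow ⟨d, rfl⟩]
    rw [show d - 1 + 1 = d by omega, gamma_sub_rank_top hK.lam_one_eq_zero hN]
    linear_combination (x * D) * hs
  rw [← hUx, ← hV', hY]
  refine Dvd.dvd.mul_right ?_ _
  show D ∣ gamma d (N - (d : K))
  rw [gamma_sub_rank_top hK.lam_one_eq_zero hN]
  exact Dvd.intro_left _ rfl

end Divisibility

section Rank

variable {K : Type u} [CommRing K] [LambdaOps K] [BinomialRing K] (hKb : IsBinomial K)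
  {A : Type v} [CommRing A] [LambdaOps A] [Algebra K A] (hA : IsSpecial A)
  {ε : A →ₐ[K] K} (hε : IsAugLambdaAlg K A ε) {d : ℕ} (hd : 1 ≤ d) {N : A}
  (hN : ∀ k : ℕ, d < k → LambdaOps.lam k N = 0) (hNε : ε N = (d : K))
  (hnzd : (∑ j ∈ range (d + 1), (-1 : A) ^ j * LambdaOps.lam j N) ∈ A⁰)
include hKb hA hε hd hN hNε hnzd

theorem mem_gammaFil_of_mul_eq {p : ℕ} (hp : 1 ≤ p) {x y : A}
    (hy : y * (∑ j ∈ range (d + 1), (-1 : A) ^ j * LambdaOps.lam j N) =
      gamma p (x * (∑ j ∈ range (d + 1), (-1 : A) ^ j * LambdaOps.lam j N))) :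
    y ∈ gammaFil (ε : A →+* K) (p - d) := by
  set D := ∑ j ∈ range (d + 1), (-1 : A) ^ j * LambdaOps.lam j N
  let a : kerGen ε → A := Subtype.val
  let r : kerGen ε := ⟨N - (d : A), by simp [hNε]⟩
  have hr : ∀ j, d < j → gamma j (a r) = 0 := fun j hj =>
    gamma_sub_rank_eq_zero hA.lam_one_eq_zero hN hj
  obtain ⟨X', hX'⟩ := phi_surjective (ε := ε) ((-1) ^ d * x)
  let U : MvPolynomial (kerGen ε × ℕ) K := X' * X (r, d - 1)
  have hφy : phi (algebraMap K A) a (X (r, d - 1)) = (-1) ^ d * D := by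
    simp only [phi, eval₂Hom_X', a, r]
    rw [show d - 1 + 1 = d by omega, gamma_sub_rank_top hA.lam_one_eq_zero hN]
  have hUx : phi (algebraMap K A) a U = x * D := by
    rw [map_mul, hX', hφy, mul_mul_mul_comm, ← pow_add, Even.neg_one_pow ⟨d, rfl⟩, one_mul]
  have hJ : U ∈ Jt K r (d - 1) := Ideal.mul_mem_left _ _ (X_mem_Jt le_rfl)
  have hW : U ∈ Wt _ K d := Ideal.mul_mem_left _ _ (X_mem_Wt (by show d ≤ d - 1 + 1; omega))
  obtain ⟨V, hV, hVw, -, hVJ⟩ :=
    exists_gamma_spec (algebraMap K A) a hKb hε.isLambdaAlg hA p hp U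
  obtain ⟨Y, hY, hY'⟩ := exists_mul_of_mem_Jt (algebraMap K A) a hd hr (hVJ _ _ hJ)
    (isFilt_Wt.anti (le_max_left p d) (hVw d hd hW))
  rw [hV, hUx, ← hy, show gamma d (a r) = (-1) ^ d * D from
    gamma_sub_rank_top hA.lam_one_eq_zero hN, mul_right_comm] at hY'
  rw [mul_cancel_right_mem_nonZeroDivisors hnzd] at hY'
  rw [hY']
  exact Ideal.mul_mem_left _ _ (phi_mem_gammaFil hY)

theorem sub_factorial_mul_mem {i : ℕ} {x : A} (hx : x ∈ gammaFil (ε : A →+* K) i) {y : A}
    (hy : y * (∑ j ∈ range (d + 1), (-1 : A) ^ j * LambdaOps.lam j N) =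
      gamma (d + i) (x * (∑ j ∈ range (d + 1), (-1 : A) ^ j * LambdaOps.lam j N))) :
    y - (-1 : A) ^ (d + i - 1) * ((d + i - 1).factorial : A) * x ∈
      gammaFil (ε : A →+* K) (i + 1) := by
  set D := ∑ j ∈ range (d + 1), (-1 : A) ^ j * LambdaOps.lam j N
  let a : kerGen ε → A := Subtype.val
  let r : kerGen ε := ⟨N - (d : A), by simp [hNε]⟩
  have hr : ∀ j, d < j → gamma j (a r) = 0 := fun j hj =>
    gamma_sub_rank_eq_zero hA.lam_one_eq_zero hN hj
  obtain ⟨X', hXw, hX'⟩ := exists_phi_of_mem ((gammaFil (ε : A →+* K) i).mul_mem_left ((-1) ^ d) hx)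
  let U : MvPolynomial (kerGen ε × ℕ) K := X (r, d - 1) * X'
  have hφy : phi (algebraMap K A) a (X (r, d - 1)) = (-1) ^ d * D := by
    simp only [phi, eval₂Hom_X', a, r]
    rw [show d - 1 + 1 = d by omega, gamma_sub_rank_top hA.lam_one_eq_zero hN]
  have hUx : phi (algebraMap K A) a U = x * D := by
    rw [map_mul, hX', hφy, mul_mul_mul_comm, ← pow_add, Even.neg_one_pow ⟨d, rfl⟩, one_mul, mul_comm]
  have hJ : U ∈ Jt K r (d - 1) := Ideal.mul_mem_right _ _ (X_mem_Jt le_rfl)
  have hW : U ∈ Wt _ K (d + i) :=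
    isFilt_Wt.mul (X_mem_Wt (by show d ≤ d - 1 + 1; omega)) hXw
  obtain ⟨V, hV, -, hV2, hVJ⟩ :=
    exists_gamma_spec (algebraMap K A) a hKb hε.isLambdaAlg hA (d + i) (by omega) U
  obtain ⟨Y, hY, hY'⟩ := exists_mul_of_mem_Jt (algebraMap K A) a hd hr
    (Ideal.sub_mem _ (hVJ _ _ hJ) (Ideal.mul_mem_left _ _ hJ)) (hV2 hW)
  rw [map_sub, map_mul, map_mul, map_pow, map_neg, map_one, map_natCast, hV, hUx, ← hy,
    show gamma d (a r) = (-1) ^ d * D from gamma_sub_rank_top hA.lam_one_eq_zero hN,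
    ] at hY'
  have hY'' : (y - (-1 : A) ^ (d + i - 1) * ((d + i - 1).factorial : A) * x) * D =
      ((-1) ^ d * phi (algebraMap K A) a Y) * D := by linear_combination hY'
  rw [(mul_cancel_right_mem_nonZeroDivisors hnzd).1 hY'']
  refine Ideal.mul_mem_left _ _ (phi_mem_gammaFil ?_)
  rwa [show d + i + 1 - d = i + 1 by omega] at hY

end Rank

section Generated

variable {K : Type u} [CommRing K] [LambdaOps K] [BinomialRing K] (hKb : IsBinomial K)
  {B : Type v} [CommRing B] [LambdaOps B] [Algebra K B] (hB : IsSpecial B)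
  {ε : B →ₐ[K] K} (hε : IsAugLambdaAlg K B ε)
include hKb hB hε

theorem gammaFil_le_of_generated {σ : Type w} (a : σ → B) (ha : ∀ r, ε (a r) = 0)
    (hs : Function.Surjective (phi (algebraMap K B) a)) {T : ℕ → Ideal B} (hT : IsFilt T)
    (h : ∀ r j, gamma (j + 1) (a r) ∈ T (j + 1)) (k : ℕ) : gammaFil (ε : B →+* K) k ≤ T k :=
  gammaFil_le _ hT (gamma_mem_of_phi_surjective (algebraMap K B) a hKb hε.isLambdaAlg hB hT
    (ε : B →+* K) (fun c => ε.commutes c) (fun r j => aug_gamma_eq_zero hε j (ha r)) h hs) k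

theorem gammaFil_eq_truncated (n : ℕ) (x : B) (hx : ε x = 0)
    (hγ : ∀ k : ℕ, n < k → gamma k x = 0)
    (hgen : Algebra.adjoin K (Set.range fun j : Fin n => gamma ((j : ℕ) + 1) x) = ⊤) (k : ℕ) :
    gammaFil (ε : B →+* K) k = Ideal.span {m : B | ∃ e : Fin n → ℕ,
      k ≤ ∑ j : Fin n, ((j : ℕ) + 1) * e j ∧ m = ∏ j : Fin n, gamma ((j : ℕ) + 1) x ^ e j} := by
  classical
  let T : ℕ → Ideal B := fun k => Ideal.span {m : B | ∃ e : Fin n → ℕ,
    k ≤ ∑ j : Fin n, ((j : ℕ) + 1) * e j ∧ m = ∏ j : Fin n, gamma ((j : ℕ) + 1) x ^ e j}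
  have hT : IsFilt T :=
    { zero := (Ideal.eq_top_iff_one _).2 (Ideal.subset_span ⟨0, by simp, by simp⟩)
      anti := fun a b hab => Ideal.span_mono fun m ⟨e, he, hm⟩ => ⟨e, hab.trans he, hm⟩
      mul := by
        intro a b p q hp hq
        induction hp using Submodule.span_induction with
        | mem p hp =>
          induction hq using Submodule.span_induction with
          | mem q hq =>
            obtain ⟨e, he, rfl⟩ := hp
            obtain ⟨e', he', rfl⟩ := hq
            refine Ideal.subset_span ⟨e + e', ?_, ?_⟩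
            · simp only [Pi.add_apply, mul_add, sum_add_distrib]; omega
            · simp only [Pi.add_apply, pow_add, prod_mul_distrib]
          | zero => simp
          | add p' q' _ _ h h' => rw [mul_add]; exact Ideal.add_mem _ h h'
          | smul c p' _ h => rw [smul_eq_mul, mul_left_comm]; exact Ideal.mul_mem_left _ _ h
        | zero => simp
        | add p' q' _ _ h h' => rw [add_mul]; exact Ideal.add_mem _ h h'
        | smul c p' _ h => rw [smul_eq_mul, mul_assoc]; exact Ideal.mul_mem_left _ _ h }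
  refine le_antisymm (gammaFil_le_of_generated hKb hB hε (fun _ : Unit => x) (fun _ => hx) ?_ hT
    (fun _ j => ?_) k) (Ideal.span_le.2 ?_)
  · intro z
    have : z ∈ Algebra.adjoin K (Set.range fun j : Fin n => gamma ((j : ℕ) + 1) x) :=
      hgen ▸ Algebra.mem_top
    induction this using Algebra.adjoin_induction with
    | mem z hz => obtain ⟨j, rfl⟩ := hz; exact ⟨X ((), (j : ℕ)), by simp [phi]⟩
    | algebraMap c => exact ⟨C c, by simp [phi]⟩
    | add p q _ _ h h' =>
      obtain ⟨U, rfl⟩ := h; obtain ⟨U', rfl⟩ := h'; exact ⟨U + U', map_add _ _ _⟩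
    | mul p q _ _ h h' =>
      obtain ⟨U, rfl⟩ := h; obtain ⟨U', rfl⟩ := h'; exact ⟨U * U', map_mul _ _ _⟩
  · rcases lt_or_ge j n with hj | hj
    · refine Ideal.subset_span ⟨Pi.single ⟨j, hj⟩ 1, le_of_eq ?_, ?_⟩
      · simp [Pi.single_apply]
      · simp [Pi.single_apply, pow_ite, Finset.prod_ite_eq']
    · rw [hγ (j + 1) (by omega)]
      exact Ideal.zero_mem _
  · rintro _ ⟨e, he, rfl⟩
    have hF := isFilt_gammaFil (ε : B →+* K)
    refine hF.anti he ?_
    induction (univ : Finset (Fin n)) using Finset.induction_on with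
    | empty => simp [hF.zero]
    | insert j s hj ih =>
      rw [sum_insert hj, prod_insert hj, mul_comm ((j : ℕ) + 1)]
      exact hF.mul (hF.prod_pow_mem (gamma_mem_gammaFil _ _ hx) _) ih

omit hB in
theorem map_gammaFil_le {A : Type w} [CommRing A] [LambdaOps A] (g : A →+* B) (εA : A →+* K)
    (hg : ∀ (n : ℕ) (a : A), g (LambdaOps.lam n a) = LambdaOps.lam n (g a))
    (hεg : ∀ a, ε (g a) = εA a) (k : ℕ) {a : A} (ha : a ∈ gammaFil εA k) :
    g a ∈ gammaFil (ε : B →+* K) k := by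
  have hF := isFilt_gammaFil (ε : B →+* K)
  have hT : IsFilt fun k => (gammaFil (ε : B →+* K) k).comap g :=
    { zero := by simp [hF.zero]
      anti := fun a b hab => Ideal.comap_mono (hF.anti hab)
      mul := fun {a b x y} hx hy => by
        show g (x * y) ∈ gammaFil (ε : B →+* K) (a + b)
        rw [map_mul]
        exact hF.mul hx hy }
  refine gammaFil_le εA hT (fun i z hz => ?_) k ha
  have e : g (gamma i z) = gamma i (g z) :=
    (map_gamT g _ i).trans (gamT_congr i fun m _ _ => hg m z)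
  rw [Ideal.mem_comap, e]
  exact gamma_mem_gammaFil _ _ ((hεg z).trans hz)

end Generated

end LambdaSpLib
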