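import Groth.Agent.LambdaSpL.Free

/-! Weights of `γ`-operations in the free `K`-`λ`-algebra. -/

namespace LambdaSpLib

open MvPolynomial Finset LambdaRing fwdDiff fwdDiff_aux

universe u v w

variable {σ : Type w} {K : Type u} [CommRing K] [BinomialRing K]

local notation "Lq" => FreeQ σ K
local notation "WQ" => Wt σ (Localization (natPos K))

theorem natCast_mul_mem_iff {I : Ideal (FreeQ σ K)} {n : ℕ} (hn : n ≠ 0) {x : FreeQ σ K} :
    (n : FreeQ σ K) * x ∈ I ↔ x ∈ I := by
  refine ⟨fun h => ?_, fun h => I.mul_mem_left _ h⟩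
  have := I.mul_mem_left (algebraMap ℚ (FreeQ σ K) (n : ℚ)⁻¹) h
  rwa [← mul_assoc, ← map_natCast (algebraMap ℚ (FreeQ σ K)), ← map_mul,
    inv_mul_cancel₀ (Nat.cast_ne_zero.2 hn), map_one, one_mul] at this

theorem mem_W_zero (x : Lq) : x ∈ WQ 0 := Nat.recOn (motive := fun _ => x ∈ WQ 0) 0
  (fun m _ => Nat.zero_le _) (fun _ h => h)

theorem newton_mem {G p : ℕ → Lq} (h0 : G 0 = 1) (h : NewtonRel G p)
    (hp : ∀ i, 1 ≤ i → p i ∈ WQ i) (n : ℕ) : G n ∈ WQ n := by
  induction n using Nat.strong_induction_on with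
  | h n ih =>
    match n with
    | 0 => exact mem_W_zero _
    | m + 1 =>
      rw [← natCast_mul_mem_iff (σ := σ) (K := K) (Nat.succ_ne_zero m), Nat.cast_succ, h m]
      refine (WQ _).sum_mem fun i hi => ?_
      rw [mul_assoc]
      refine (WQ _).mul_mem_left _ ?_
      simp only [mem_range] at hi
      have := isFilt_Wt.mul (hp (i + 1) (by omega)) (ih (m - i) (by omega))
      rwa [show i + 1 + (m - i) = m + 1 by omega] at this

theorem newton_mem_ideal {G p : ℕ → Lq} (I : Ideal Lq) (h : NewtonRel G p)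
    (hp : ∀ i, 1 ≤ i → p i ∈ I) (n : ℕ) (hn : 1 ≤ n) : G n ∈ I := by
  obtain ⟨m, rfl⟩ := Nat.exists_eq_succ_of_ne_zero (show n ≠ 0 by omega)
  rw [← natCast_mul_mem_iff (σ := σ) (K := K) (Nat.succ_ne_zero m), Nat.cast_succ, h m]
  exact I.sum_mem fun i _ => I.mul_mem_right _ (I.mul_mem_left _ (hp (i + 1) (by omega)))

theorem newton_mem_rev {G p : ℕ → Lq} (h0 : G 0 = 1) (h : NewtonRel G p)
    (hG : ∀ i, G i ∈ WQ i) (n : ℕ) (hn : 1 ≤ n) : p n ∈ WQ n := by
  induction n using Nat.strong_induction_on with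
  | h n ih =>
    obtain ⟨m, rfl⟩ := Nat.exists_eq_succ_of_ne_zero (show n ≠ 0 by omega)
    have hm := h m
    rw [sum_range_succ, Nat.sub_self, h0, mul_one] at hm
    have h1 : (-1 : Lq) ^ m * p (m + 1) ∈ WQ (m + 1) := by
      rw [eq_sub_of_add_eq' hm.symm]
      refine (WQ _).sub_mem ((WQ _).mul_mem_left _ (hG _)) ((WQ _).sum_mem fun i hi => ?_)
      rw [mul_assoc]
      refine (WQ _).mul_mem_left _ ?_
      simp only [mem_range] at hi
      have := isFilt_Wt.mul (ih (i + 1) (by omega) (by omega)) (hG (m - i))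
      rwa [show i + 1 + (m - i) = m + 1 by omega] at this
    have := (WQ _).mul_mem_left ((-1 : Lq) ^ m) h1
    rwa [← mul_assoc, ← mul_pow, neg_one_mul, neg_neg, one_pow, one_mul] at this

theorem cls_pOf (r : σ) : Cls (WQ) 0 (pOf (gY (Localization (natPos K)) r)) := by
  refine cls_of_zero isFilt_Wt fun j => ?_
  rw [zero_add]
  rcases Nat.eq_zero_or_pos j with rfl | hj
  · exact mem_W_zero _
  let G := gY (Localization (natPos K)) r
  have h1 : NewtonRel (gamT (lamT G)) (fun i => Δ_[1]^[i] (pOf G) 0) :=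
    newtonRel_gamT (by rw [lamT]) (pOf_zero G) (newtonRel_pOf G)
  exact newton_mem_rev (gamT_zero _) h1
    (fun i => by rw [gamT_lamT (show G 0 = 1 from rfl)]; exact gY_mem r i) j hj

/-- Functions of class zero form a subring. -/
noncomputable def clsSubring (σ : Type w) (K : Type u) [CommRing K] [BinomialRing K] :
    Subring (ℕ → FreeQ σ K) where
  carrier := {f | Cls (Wt σ (Localization (natPos K))) 0 f}
  mul_mem' hf hg := by simpa using hf.mul isFilt_Wt hg
  one_mem' := cls_const (mem_W_zero _)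
  add_mem' hf hg := hf.add hg
  zero_mem' := cls_const ((Wt σ _ 0).zero_mem)
  neg_mem' {f} hf := by
    have := (cls_const (a := 0) (mem_W_zero (-1 : FreeQ σ K))).mul isFilt_Wt hf
    have e : -f = (fun _ => (-1 : FreeQ σ K)) * f := funext fun n => (neg_one_mul (f n)).symm
    show Cls _ 0 (-f)
    simpa [e] using this

theorem const_mem_cls (c : Lq) : (fun _ => c) ∈ clsSubring σ K := cls_const (mem_W_zero c)

theorem fSeq_mem_cls {p : ℕ → ℕ → Lq} (hp : ∀ l, p l ∈ clsSubring σ K) (n : ℕ) :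
    fSeq p n ∈ clsSubring σ K := by
  induction n using Nat.strong_induction_on with
  | h n ih =>
    match n with
    | 0 => rw [fSeq]; exact one_mem _
    | m + 1 =>
      rw [fSeq, Algebra.smul_def]
      refine mul_mem (const_mem_cls (algebraMap ℚ Lq _)) (sum_mem fun i _ => ?_)
      exact mul_mem (mul_mem (pow_mem (neg_mem (one_mem _)) _) (hp _)) (ih _ (by omega))

/-- The Adams operations of any element have bounded weight differences. -/
theorem cls_psi (z : Lq) : Cls (WQ) 0 (fun k => psi k z) := by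
  change (fun k => psi k z) ∈ clsSubring σ K
  induction z using MvPolynomial.induction_on with
  | C c =>
    rw [show (fun k => psi (σ := σ) k (C c)) = fun _ => C c from funext fun k => by simp [psi]]
    exact const_mem_cls _
  | add f g hf hg =>
    rw [show (fun k => psi k (f + g)) = (fun k => psi k f) + fun k => psi k g from
      funext fun k => map_add _ _ _]
    exact add_mem hf hg
  | mul_X f x hf =>
    rw [show (fun k => psi k (f * X x)) = (fun k => psi k f) * fun k => psi k (X x) from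
      funext fun k => map_mul _ _ _]
    refine mul_mem hf ?_
    let G := gY (Localization (natPos K)) x.1
    let q : ℕ → ℕ → FreeQ σ K := fun l k => pOf G (k * l)
    have e : (fun k => psi k (X x)) = gamT (fSeq q) (x.2 + 1) := by
      funext k
      rw [show psi (K := K) k (X x) = dilG G k (x.2 + 1) by simp [psi, G], dilG]
      refine Eq.trans ?_ (map_gamT (Pi.evalRingHom (fun _ : ℕ => FreeQ σ K) k) (fSeq q) (x.2 + 1)).symm
      refine gamT_congr _ fun m _ _ => ?_
      refine Eq.trans ?_ (map_fSeq (Pi.evalRingHom (fun _ : ℕ => FreeQ σ K) k) q m).symm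
      rfl
    rw [e, gamT_succ]
    refine sum_mem fun i _ => mul_mem (natCast_mem _ _) (fSeq_mem_cls (fun l => ?_) _)
    have := (cls_pOf (K := K) x.1).dilate l
    show Cls _ 0 _
    rwa [show q l = fun k => pOf G (l * k) from funext fun k => by simp [q, mul_comm]]

theorem psi_X_sub_mem (k : ℕ) (x : σ × ℕ) :
    psi (K := K) k (X x) ∈ WQ (x.2 + 1) ∧
      psi (K := K) k (X x) - (k : Lq) ^ (x.2 + 1) * X x ∈ WQ (x.2 + 1 + 1) := by
  let G := gY (Localization (natPos K)) x.1
  let p' : ℕ → FreeQ σ K := fun i => Δ_[1]^[i] (pOf G) 0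
  let q' : ℕ → FreeQ σ K := fun i => Δ_[1]^[i] (fun l => pOf G (k * l)) 0
  have hd : ∀ i, q' i ∈ WQ i ∧ q' i - (k : Lq) ^ i * p' i ∈ WQ (i + 1) := fun i => by
    have := Cls.dilate_aux (W := WQ) k i (cls_pOf (K := K) x.1) 0
    simpa [p', q', G] using this
  have hN : NewtonRel (dilG G k) q' := newtonRel_dilG G k
  have hD : ∀ n, dilG G k n ∈ WQ n :=
    newton_mem (gamT_zero _) hN fun i _ => (hd i).1
  have hG : NewtonRel G p' :=
    (newtonRel_gamT (E := lamT G) (f := pOf G) (by rw [lamT]) (pOf_zero G) (newtonRel_pOf G)).congr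
      (fun n => gamT_lamT rfl n) fun _ _ => rfl
  have key : ∀ n, dilG G k n - (k : Lq) ^ n * G n ∈ WQ (n + 1) := by
    intro n
    induction n using Nat.strong_induction_on with
    | h n ih =>
      match n with
      | 0 => simp [dilG, G, gY]
      | m + 1 =>
        rw [← natCast_mul_mem_iff (σ := σ) (K := K) (Nat.succ_ne_zero m), Nat.cast_succ, mul_sub,
          hN m, mul_left_comm, hG m, mul_sum, ← sum_sub_distrib]
        refine (WQ _).sum_mem fun i hi => ?_
        simp only [mem_range] at hi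
        have h1 := isFilt_Wt.mul (hd (i + 1)).2 (hD (m - i))
        have h2 := isFilt_Wt.mul
          ((WQ (i + 1)).mul_mem_left ((k : Lq) ^ (i + 1))
            (newton_mem_rev rfl hG (gY_mem x.1) (i + 1) (by omega)))
          (ih (m - i) (by omega))
        rw [show i + 1 + 1 + (m - i) = m + 1 + 1 by omega] at h1
        rw [show i + 1 + (m - i + 1) = m + 1 + 1 by omega] at h2
        have := (WQ _).mul_mem_left ((-1 : Lq) ^ i) ((WQ _).add_mem h1 h2)
        convert this using 1
        rw [show (k : Lq) ^ (m + 1) = (k : Lq) ^ (i + 1) * (k : Lq) ^ (m - i) by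
          rw [← pow_add]; congr 1; omega]
        ring
  have e : psi (K := K) k (X x) = dilG G k (x.2 + 1) := by simp [psi, G]
  rw [e]
  exact ⟨hD _, key _⟩

/-- The Adams operation `ψ^k` acts on weight `w` by `k^w`. -/
theorem psi_sub_mem (k : ℕ) {w : ℕ} {z : Lq} (hz : z ∈ WQ w) :
    psi k z ∈ WQ w ∧ psi k z - (k : Lq) ^ w * z ∈ WQ (w + 1) := by
  have hm : ∀ (m : σ × ℕ →₀ ℕ) (c : Localization (natPos K)),
      psi k (monomial m c) ∈ WQ (Finsupp.weight wt m) ∧
      psi k (monomial m c) - (k : Lq) ^ (Finsupp.weight wt m) * monomial m c ∈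
        WQ (Finsupp.weight wt m + 1) := by
    intro m
    induction m using Finsupp.induction with
    | zero => intro c; simp [psi, ← C_apply, mem_W_zero]
    | single_add x e m hx he ih =>
      intro c
      have hXe : ∀ e : ℕ, psi (K := K) k (X x ^ e) ∈ WQ (e * wt x) ∧
          psi (K := K) k (X x ^ e) - (k : Lq) ^ (e * wt x) * X x ^ e ∈ WQ (e * wt x + 1) := by
        intro e
        induction e with
        | zero => simp [mem_W_zero]
        | succ e ihe =>
          obtain ⟨a1, a2⟩ := ihe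
          obtain ⟨b1, b2⟩ := psi_X_sub_mem (K := K) k x
          have hX : (X x : Lq) ∈ WQ (e * 0 + wt x) := X_mem_Wt (by simp [wt])
          rw [pow_succ, map_mul, show (e + 1) * wt x = e * wt x + wt x by ring]
          refine ⟨isFilt_Wt.mul a1 b1, ?_⟩
          have h1 := isFilt_Wt.mul a2 b1
          have h2 := isFilt_Wt.mul
            ((WQ (e * wt x)).mul_mem_left ((k : Lq) ^ (e * wt x))
              (show (X x : Lq) ^ e ∈ WQ (e * wt x) from by
                rw [X_pow_eq_monomial]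
                exact monomial_mem_Wt (by rw [Finsupp.weight_single, smul_eq_mul]) 1)) b2
          rw [show e * wt x + 1 + (x.2 + 1) = e * wt x + wt x + 1 by simp [wt]; omega] at h1
          rw [show e * wt x + (x.2 + 1 + 1) = e * wt x + wt x + 1 by simp [wt]; omega] at h2
          have := (WQ _).add_mem h1 h2
          convert this using 1
          simp only [wt, pow_add]
          ring
      have hw : Finsupp.weight wt (Finsupp.single x e + m) = e * wt x + Finsupp.weight wt m := by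
        rw [map_add, Finsupp.weight_single, smul_eq_mul]
      obtain ⟨a1, a2⟩ := hXe e
      obtain ⟨b1, b2⟩ := ih c
      rw [hw, monomial_single_add, map_mul]
      refine ⟨isFilt_Wt.mul a1 b1, ?_⟩
      have h1 := isFilt_Wt.mul a2 b1
      have h2 := isFilt_Wt.mul
        ((WQ (e * wt x)).mul_mem_left ((k : Lq) ^ (e * wt x))
          (show (X x : Lq) ^ e ∈ WQ (e * wt x) from by
            rw [X_pow_eq_monomial]
            exact monomial_mem_Wt (by rw [Finsupp.weight_single, smul_eq_mul]) 1)) b2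
      rw [show e * wt x + 1 + Finsupp.weight wt m = e * wt x + Finsupp.weight wt m + 1 by omega] at h1
      rw [show e * wt x + (Finsupp.weight wt m + 1) = e * wt x + Finsupp.weight wt m + 1 by omega] at h2
      have := (WQ _).add_mem h1 h2
      convert this using 1
      rw [pow_add]
      ring
  rw [z.as_sum, map_sum, mul_sum, ← sum_sub_distrib]
  refine ⟨(WQ w).sum_mem fun m hmem => isFilt_Wt.anti (hz hmem) (hm m _).1,
    (WQ _).sum_mem fun m hmem => ?_⟩
  rcases eq_or_lt_of_le (show w ≤ Finsupp.weight wt m from hz hmem) with e | hlt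
  · rw [e]; exact (hm m _).2
  · refine (WQ _).sub_mem (isFilt_Wt.anti hlt (hm m _).1) ((WQ _).mul_mem_left _ ?_)
    exact monomial_mem_Wt hlt _

theorem newtonRel_gamQ {z : Lq} (hz : constantCoeff z = 0) :
    NewtonRel (fun n => gamQ n z) (fun i => Δ_[1]^[i] (fun k => psi k z) 0) :=
  newtonRel_gamT (lamQ_zero z) (by rw [psi_zero, hz, C_0]) (newtonRel_fSeq _)

theorem gamQ_zero (z : Lq) : gamQ 0 z = 1 := rfl

theorem fwdDiff_psi_mem {w : ℕ} {z : Lq} (hw : 1 ≤ w) (hz : z ∈ WQ w) (i : ℕ) :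
    Δ_[1]^[i] (fun k => psi k z) 0 ∈ WQ (max i w) := by
  rcases le_total i w with h | h
  · rw [max_eq_right h, fwdDiff_iter_eq_sum_shift]
    exact (WQ _).sum_mem fun k _ => zsmul_mem (psi_sub_mem _ hz).1 _
  · rw [max_eq_left h]
    simpa using cls_psi z i 0

theorem gamQ_mem {w : ℕ} {z : Lq} (hw : 1 ≤ w) (hz : z ∈ WQ w) (i : ℕ) (hi : 1 ≤ i) :
    gamQ i z ∈ WQ (max i w) := by
  have h := newtonRel_gamQ (constantCoeff_eq_zero_of_mem_Wt (isFilt_Wt.anti hw hz))
  rcases le_total i w with hiw | hiw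
  · rw [max_eq_right hiw]
    exact newton_mem_ideal (WQ w) h
      (fun l _ => isFilt_Wt.anti (le_max_right l w) (fwdDiff_psi_mem hw hz l)) i hi
  · rw [max_eq_left hiw]
    exact newton_mem rfl h
      (fun l _ => isFilt_Wt.anti (le_max_left l w) (fwdDiff_psi_mem hw hz l)) i

theorem sum_choose_pow (w : ℕ) :
    ∑ k ∈ range (w + 1), ((-1 : ℤ) ^ (w - k) * w.choose k) * (k : ℤ) ^ w = w.factorial := by
  have h := fwdDiff_iter_eq_sum_shift (1 : ℤ) (fun r : ℤ => r ^ w) w 0
  rw [fwdDiff_iter_eq_factorial] at h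
  simpa using h.symm

theorem gamQ_sub_mem {m : ℕ} (hm : 1 ≤ m) {z : Lq} (hz : z ∈ WQ m) :
    gamQ m z - (-1 : Lq) ^ (m - 1) * ((m - 1).factorial : Lq) * z ∈ WQ (m + 1) := by
  have h := newtonRel_gamQ (constantCoeff_eq_zero_of_mem_Wt (isFilt_Wt.anti hm hz))
  obtain ⟨n, rfl⟩ := Nat.exists_eq_succ_of_ne_zero (show m ≠ 0 by omega)
  simp only [Nat.succ_eq_add_one] at *
  set f : ℕ → FreeQ σ K := fun k => psi k z
  have hlead : Δ_[1]^[n + 1] f 0 - ((n + 1).factorial : Lq) * z ∈ WQ (n + 1 + 1) := by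
    rw [← Int.cast_natCast (R := FreeQ σ K), ← sum_choose_pow, Int.cast_sum, sum_mul,
      fwdDiff_iter_eq_sum_shift, ← sum_sub_distrib]
    refine (WQ _).sum_mem fun k _ => ?_
    have := (WQ _).mul_mem_left
      (((-1 : ℤ) ^ (n + 1 - k) * (n + 1).choose k : ℤ) : Lq) (psi_sub_mem k hz).2
    convert this using 1
    simp only [zsmul_eq_mul, f, zero_add, smul_eq_mul, mul_one]
    push_cast
    ring
  rw [← natCast_mul_mem_iff (σ := σ) (K := K) (Nat.succ_ne_zero n), Nat.cast_succ, mul_sub, h n,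
    sum_range_succ]
  dsimp only
  rw [Nat.sub_self, gamQ_zero, mul_one, add_sub_assoc]
  refine (WQ _).add_mem ((WQ _).sum_mem fun i hi => ?_) ?_
  · simp only [mem_range] at hi
    rw [mul_assoc]
    refine (WQ _).mul_mem_left _ (isFilt_Wt.anti ?_ (isFilt_Wt.mul
      (fwdDiff_psi_mem hm hz (i + 1)) (gamQ_mem hm hz (n - i) (by omega))))
    have := le_max_right (i + 1) (n + 1)
    have := le_max_right (n - i) (n + 1)
    omega
  · have := (WQ _).mul_mem_left ((-1 : Lq) ^ n) hlead
    convert this using 1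
    rw [show n + 1 - 1 = n from rfl, Nat.factorial_succ]
    push_cast
    ring

theorem psi_mem_Jt (k : ℕ) {r : σ} {d : ℕ} {z : Lq} (hz : z ∈ Jt _ r d) :
    psi k z ∈ Jt (Localization (natPos K)) r d := by
  rw [Jt_eq_span] at hz
  refine (Ideal.span_le (I := (Jt (Localization (natPos K)) r d).comap (psi k).toRingHom)).2 ?_ hz
  rintro _ ⟨j, hj, rfl⟩
  show psi k (X (r, j)) ∈ Jt _ r d
  rw [show psi (K := K) k (X (r, j)) = dilG (gY _ r) k (j + 1) by simp [psi],
    ← Ideal.Quotient.eq_zero_iff_mem]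
  refine (map_dilG (Ideal.Quotient.mk (Jt (Localization (natPos K)) r d)) _ k _).trans ?_
  refine dilG_eq_zero d _ (by simp [gY]) (fun l hl => ?_) k (Nat.lt_succ_of_le hj)
  obtain ⟨i, rfl⟩ := Nat.exists_eq_succ_of_ne_zero (show l ≠ 0 by omega)
  exact Ideal.Quotient.eq_zero_iff_mem.2 (X_mem_Jt (Nat.le_of_lt_succ hl))

theorem constantCoeff_eq_zero_of_mem_Jt {r : σ} {d : ℕ} {z : Lq} (hz : z ∈ Jt _ r d) :
    constantCoeff z = 0 := by
  rw [constantCoeff_eq]
  by_contra hc
  obtain ⟨j, -, h⟩ := hz (mem_support_iff.2 hc)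
  exact h rfl

theorem lamQ_mem_Jt {r : σ} {d : ℕ} {z : Lq} (hz : z ∈ Jt _ r d) (n : ℕ) (hn : 1 ≤ n) :
    lamQ n z ∈ Jt (Localization (natPos K)) r d :=
  newton_mem_ideal _ (newtonRel_fSeq fun k => psi k z) (fun k _ => psi_mem_Jt k hz) n hn

theorem gamQ_mem_Jt {r : σ} {d : ℕ} {z : Lq} (hz : z ∈ Jt _ r d) (n : ℕ) (hn : 1 ≤ n) :
    gamQ n z ∈ Jt (Localization (natPos K)) r d := by
  obtain ⟨m, rfl⟩ := Nat.exists_eq_succ_of_ne_zero (show n ≠ 0 by omega)
  rw [gamQ, gamT_succ]
  exact Ideal.sum_mem _ fun j _ => Ideal.mul_mem_left _ _ (lamQ_mem_Jt hz (j + 1) (by omega))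

end LambdaSpLib
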